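import Groth.Agent.L19.SpecSub.NoUnip
import Groth.Agent.L19.SpecSub.LineInUnip
import Groth.Agent.L08.UnipTorsion
import Groth.Agent.L25.Bridge.Lift

/-!
# Unipotent subgroups have no torsion of invertible order
-/

set_option autoImplicit false
set_option backward.isDefEq.respectTransparency.types false
set_option linter.style.haveILetI false
universe u

open CategoryTheory CategoryTheory.Limits MonoidalCategory CartesianMonoidalCategory MonObj AlgebraicGeometry

noncomputable section

namespace Groth.L25.TorusNhd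

variable {k : Type u} [Field k] [IsAlgClosed k]

/-- no torsion in connected groups without subtori -/
theorem eq_one_of_noSubtorus (U : Over (Spec (CommRingCat.of k))) [GrpObj U] [IsAffine U.left] [Smooth U.hom]
    [ConnectedSpace U.left] (hns : Red.HasNoSubtorus k U) (x : 𝟙_ (Over (Spec (CommRingCat.of k))) ⟶ U) {m : ℕ}
    (hm : (m : k) ≠ 0) (hx : x ^ m = 1) : x = 1 := by
  haveI : IsAffineHom U.hom := isAffineHom_of_isAffine _
  obtain ⟨A, _, _, ⟨E⟩⟩ := Bridge.exists_hopf (R := k) U
  let ψ : U ⟶ Bridge.P k A := E.hom.hom.hom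
  haveI : IsMonHom ψ := E.hom.hom.isMonHom_hom
  haveI hψ : IsIso ψ :=
    ⟨E.inv.hom.hom, congr($(E.hom_inv_id).hom.hom), congr($(E.inv_hom_id).hom.hom)⟩
  haveI : IsMonHom (inv ψ) := E.inv.hom.isMonHom_hom |> fun h => by
    rwa [show inv ψ = E.inv.hom.hom from IsIso.inv_eq_of_hom_inv_id congr($(E.hom_inv_id).hom.hom)]
  haveI : IsIso ψ.left := inferInstanceAs (IsIso ((Over.forget _).map ψ))
  haveI hsm : Smooth (Bridge.P k A).hom := by
    rw [show (Bridge.P k A).hom = inv ψ.left ≫ U.hom by rw [IsIso.eq_inv_comp]; exact Over.w ψ]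
    infer_instance
  haveI : Algebra.FiniteType k A := by
    have h : LocallyOfFiniteType (Bridge.P k A).hom := inferInstance
    change LocallyOfFiniteType (Spec.map (CommRingCat.ofHom (algebraMap k A))) at h
    rw [HasRingHomProperty.Spec_iff (P := @LocallyOfFiniteType), CommRingCat.hom_ofHom,
      RingHom.finiteType_algebraMap] at h
    exact h
  haveI : _root_.IsReduced A :=
    (affine_isReduced_iff (CommRingCat.of A)).1
      (@Groth.Agent.AV.isReduced_of_smooth_field k _ _ (Spec.map (CommRingCat.ofHom (algebraMap k A))) hsm)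
  haveI : ConnectedSpace (Bridge.P k A).left :=
    (Scheme.homeoOfIso (asIso ψ.left)).surjective.connectedSpace (Homeomorph.continuous _)
  haveI : ConnectedSpace (PrimeSpectrum A) := inferInstanceAs (ConnectedSpace (Bridge.P k A).left)
  have hconn : ∀ e : A, IsIdempotentElem e → e = 0 ∨ e = 1 := fun e he => by
    have hc : IsClopen (PrimeSpectrum.basicOpen e : Set (PrimeSpectrum A)) :=
      PrimeSpectrum.isClopen_iff.2 ⟨e, he, rfl⟩
    rcases isClopen_iff.1 hc with h | h
    · left
      exact (IsNilpotent.eq_zero ((PrimeSpectrum.basicOpen_eq_bot_iff e).1 (TopologicalSpace.Opens.ext h)))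
    · right
      have hu : IsUnit e := by
        by_contra hne
        obtain ⟨m, hm, hem⟩ := exists_max_ideal_of_mem_nonunits (mem_nonunits_iff.2 hne)
        have : (⟨m, hm.isPrime⟩ : PrimeSpectrum A) ∈ PrimeSpectrum.basicOpen e := by
          rw [← SetLike.mem_coe, h]; trivial
        exact this hem
      exact hu.mul_left_cancel (he.eq.trans (_root_.mul_one e).symm)
  have hns' : Red.HasNoSubtorus k (Bridge.P k A) := fun T _ j _ _ hT => hns T (j ≫ inv ψ) hT
  have hunip : HopfRep.IsUnipotent k A := Groth.L24.Count.isUnipotent_of_noSubtorus (A := A) hconn hns'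
  let O := (Spec (CommRingCat.of k)).asOver (Spec (CommRingCat.of k))
  let c : O ⟶ 𝟙_ (Over (Spec (CommRingCat.of k))) := toUnit O
  haveI : IsIso c.left := by
    rw [show c.left = O.hom from (Category.comp_id _).symm.trans (Over.w c)]
    show IsIso (Spec.map (CommRingCat.ofHom (algebraMap k k)))
    rw [Algebra.algebraMap_self, CommRingCat.ofHom_id, Spec.map_id]
    infer_instance
  haveI : IsIso ((Over.forget _).map c) := ‹IsIso c.left›
  haveI : IsIso c := isIso_of_reflects_iso c (Over.forget _)
  let w := Spec.mapMulEquiv.symm (c ≫ x ≫ ψ)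
  have hw : w ^ m = 1 := by
    rw [← map_pow, ← MonObj.comp_pow, ← MonObj.pow_comp, hx, MonObj.one_comp, MonObj.comp_one, map_one]
  have h1 := Groth.L08.eq_one_of_pow_eq_one hunip w hm hw
  rw [MulEquiv.map_eq_one_iff] at h1
  rw [← cancel_mono ψ, MonObj.one_comp, ← cancel_epi c, MonObj.comp_one]
  exact h1

end Groth.L25.TorusNhd
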