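import Groth.Agent.L25.TorusNhd.Specialize
import Groth.Agent.L19.Limit.ProperNearPoint
import Groth.Agent.L02.ConsP.PairDescends
import Groth.Agent.L02.NeutralOpen.Main
import Groth.Agent.L07.SmoothFibre

/-!
# A torus fibre has an open neighbourhood of torus fibres
-/

set_option autoImplicit false
set_option backward.isDefEq.respectTransparency.types false
set_option linter.style.haveILetI false
universe u

open CategoryTheory CategoryTheory.Limits MonoidalCategory CartesianMonoidalCategory MonObj AlgebraicGeometry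

noncomputable section

namespace Groth.L25.TorusNhd

open Groth.L19.SpecSub (genPtOf resClosed)

variable {S : Scheme.{u}} {G : Over S} [GrpObj G]

/-- fibres of a restriction to an open -/
def fibreBcIso (U : S.Opens) (t : U.toScheme) :
    pullback (Red.bc U.ι G).hom (U.toScheme.fromSpecResidueField t) ≅
      pullback G.hom (U.toScheme.fromSpecResidueField t ≫ U.ι) :=
  pullbackLeftPullbackSndIso G.hom U.ι (U.toScheme.fromSpecResidueField t)

/-- connected fibres restrict to opens -/
theorem connected_bc (hconn : ∀ t : S, ConnectedSpace ↥(pullback G.hom (S.fromSpecResidueField t))) (U : S.Opens)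
    (t : U.toScheme) : ConnectedSpace ↥(pullback (Red.bc U.ι G).hom (U.toScheme.fromSpecResidueField t)) := by
  haveI := hconn (U.ι t)
  have h1 : U.toScheme.fromSpecResidueField t ≫ U.ι =
      Spec.map (U.ι.residueFieldMap t) ≫ S.fromSpecResidueField (U.ι t) :=
    (Scheme.Hom.SpecMap_residueFieldMap_fromSpecResidueField U.ι t).symm
  haveI : IsIso (Spec.map (U.ι.residueFieldMap t)) := inferInstance
  let e : pullback G.hom (U.toScheme.fromSpecResidueField t ≫ U.ι) ≅ pullback G.hom (S.fromSpecResidueField (U.ι t)) :=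
    pullback.congrHom rfl h1 ≪≫ (pullbackLeftPullbackSndIso G.hom _ _).symm ≪≫
      asIso (pullback.fst (pullback.snd G.hom (S.fromSpecResidueField (U.ι t))) (Spec.map (U.ι.residueFieldMap t)))
  exact (Scheme.homeoOfIso (fibreBcIso U t ≪≫ e)).symm.surjective.connectedSpace (Homeomorph.continuous _)

/-- affine fibres restrict to opens -/
theorem affine_bc (haff : ∀ t : S, IsAffine (pullback G.hom (S.fromSpecResidueField t))) (U : S.Opens)
    (t : U.toScheme) : IsAffine (pullback (Red.bc U.ι G).hom (U.toScheme.fromSpecResidueField t)) := by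
  haveI := haff (U.ι t)
  have h1 : U.toScheme.fromSpecResidueField t ≫ U.ι =
      Spec.map (U.ι.residueFieldMap t) ≫ S.fromSpecResidueField (U.ι t) :=
    (Scheme.Hom.SpecMap_residueFieldMap_fromSpecResidueField U.ι t).symm
  haveI : IsIso (Spec.map (U.ι.residueFieldMap t)) := inferInstance
  let e : pullback G.hom (U.toScheme.fromSpecResidueField t ≫ U.ι) ≅ pullback G.hom (S.fromSpecResidueField (U.ι t)) :=
    pullback.congrHom rfl h1 ≪≫ (pullbackLeftPullbackSndIso G.hom _ _).symm ≪≫
      asIso (pullback.fst (pullback.snd G.hom (S.fromSpecResidueField (U.ι t))) (Spec.map (U.ι.residueFieldMap t)))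
  exact IsAffine.of_isIso (fibreBcIso U t ≪≫ e).hom

/-- the smooth part of a group with connected fibres -/
theorem exists_smooth_nhd [Flat G.hom] [LocallyOfFinitePresentation G.hom] [QuasiCompact G.hom]
    (hconn : ∀ t : S, ConnectedSpace ↥(pullback G.hom (S.fromSpecResidueField t))) (s : S)
    (hs : Smooth (Red.bc (S.fromSpecResidueField s) G).hom) :
    ∃ U : S.Opens, s ∈ U ∧ Smooth (Red.bc U.ι G).hom := by
  let e : S ⟶ G.left := η[G].left
  have he : e ≫ G.hom = 𝟙 S := Over.w η[G]
  refine ⟨e ⁻¹ᵁ G.hom.smoothLocus, ?_, ?_⟩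
  · show e s ∈ G.hom.smoothLocus
    exact (Groth.L07.SmoothFibre.smooth_fibre_iff G.hom s).1 hs (e s) (by
      rw [← Scheme.Hom.comp_apply, he]; rfl)
  let U := e ⁻¹ᵁ G.hom.smoothLocus
  let G' := Red.bc U.ι G
  let p : G'.left ⟶ G.left := pullback.fst G.hom U.ι
  let O : G'.left.Opens := p ⁻¹ᵁ G.hom.smoothLocus
  haveI : LocallyOfFinitePresentation G'.hom :=
    MorphismProperty.pullback_snd _ _ ‹LocallyOfFinitePresentation G.hom›
  haveI : QuasiCompact G'.hom := MorphismProperty.pullback_snd _ _ ‹QuasiCompact G.hom›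
  haveI : Smooth (O.ι ≫ G'.hom) := by
    haveI : Smooth ((O.ι ≫ G'.hom) ≫ U.ι) := by
      have h1 : (O.ι ≫ G'.hom) ≫ U.ι = (p ∣_ G.hom.smoothLocus) ≫ G.hom.smoothLocus.ι ≫ G.hom := by
        rw [morphismRestrict_ι_assoc, Category.assoc]
        exact congrArg (O.ι ≫ ·) pullback.condition.symm
      rw [h1]
      haveI : IsOpenImmersion (p ∣_ G.hom.smoothLocus) := inferInstance
      haveI : Smooth (G.hom.smoothLocus.ι ≫ G.hom) := by
        rw [← Scheme.Hom.smoothLocus_eq_top_iff, ← Scheme.Hom.preimage_smoothLocus_eq]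
        exact Scheme.Opens.ι_preimage_self _
      infer_instance
    exact MorphismProperty.of_postcomp (W := @Smooth) (W' := @IsOpenImmersion) _ U.ι inferInstance inferInstance
  have hO : ∀ t : U.toScheme, (η[G'] : 𝟙_ (Over U.toScheme) ⟶ G').left t ∈ O := by
    intro t
    show p ((η[G'] : 𝟙_ (Over U.toScheme) ⟶ G').left t) ∈ G.hom.smoothLocus
    have h1 : NilAction.toBase U.ι (1 : 𝟙_ (Over U.toScheme) ⟶ G') = 1 := NilAction.toBase_one _
    have h2 := congrArg (fun m => m.left t) h1
    simp only [NilAction.toBase, Over.homMk_left, Hom.one_def, MonoFibres.one_left, Over.comp_left,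
      Scheme.Hom.comp_apply] at h2
    rw [show (toUnit (𝟙_ (Over U.toScheme))).left t = t by
      rw [toUnit_unique (toUnit _) (𝟙 _)]; rfl] at h2
    rw [h2]
    exact t.2
  obtain ⟨N, hN, -, hsm⟩ := Groth.L02.NeutralOpen.of_smooth_unit G' O hO
  have htop : N = ⊤ := by
    refine top_le_iff.1 fun x _ => ?_
    show x ∈ (N : Set G'.left)
    rw [hN]
    refine Set.mem_iUnion.2 ⟨G'.hom x, ?_⟩
    have hpre : _root_.IsPreconnected (G'.hom.base ⁻¹' {G'.hom x}) := by
      haveI : ConnectedSpace ↥(pullback G'.hom (U.toScheme.fromSpecResidueField (G'.hom x))) :=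
        Groth.L25.TorusNhd.connected_bc hconn U (G'.hom x)
      rw [← Scheme.range_fromSpecResidueField, ← Scheme.Pullback.range_fst]
      exact (isConnected_range (pullback.fst G'.hom _).continuous).isPreconnected
    refine hpre.subset_connectedComponentIn ?_ (fun y hy => hy) rfl
    show G'.hom ((η[G'] : 𝟙_ (Over U.toScheme) ⟶ G').left (G'.hom x)) = _
    rw [← Scheme.Hom.comp_apply, Over.w]
    rfl
  haveI := hsm
  haveI : IsIso N.ι := by rw [htop]; exact inferInstanceAs (IsIso G'.left.topIso.hom)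
  rw [show G'.hom = inv N.ι ≫ N.ι ≫ G'.hom from (IsIso.inv_hom_id_assoc _ _).symm]
  infer_instance

/-- a torus special fibre over a valuation ring forces a torus generic fibre -/
theorem isTorus_generic_of_special {V : Type u} [CommRing V] [IsDomain V] [ValuationRing V] {L : Type u} [Field L]
    [Algebra V L] [IsFractionRing V L] [IsAlgClosed L] [IsAlgClosed (IsLocalRing.ResidueField V)]
    (G' : Over (Spec (CommRingCat.of V))) [GrpObj G'] [Smooth G'.hom] [IsSeparated G'.hom]
    (hs : Red.IsTorus (Red.bc (resClosed V) G'))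
    (X : Over (Spec (CommRingCat.of L))) [GrpObj X] [Smooth X.hom] [IrreducibleSpace X.left] [IsAffine X.left]
    (c : Red.bc (genPtOf V L) G' ≅ X) [IsMonHom c.hom] : Red.IsTorus X := by
  refine Groth.L19.SpecSub.isTorus_of_noUnip X fun U _ i _ hic hUs hUc hns => ?_
  haveI := hic; haveI := hUs; haveI := hUc
  haveI : IsAffine U.left := isAffine_of_isAffineHom i.left
  haveI : IsIso c.inv.left := inferInstanceAs (IsIso ((Over.forget _).map c.inv))
  haveI : IsClosedImmersion (i ≫ c.inv).left := by rw [Over.comp_left]; infer_instance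
  exact isTrivialGrp_of_special_torus G' hs U (i ≫ c.inv) hns

/-- the geometric fibres are affine -/
theorem isAffine_geomFibre (haff : ∀ t : S, IsAffine (pullback G.hom (S.fromSpecResidueField t))) (t : S) :
    IsAffine (Red.geomFibre t G).left := by
  let σ : Spec (CommRingCat.of (AlgebraicClosure (S.residueField t))) ⟶ Spec (S.residueField t) :=
    Spec.map (CommRingCat.ofHom (algebraMap (S.residueField t) (AlgebraicClosure (S.residueField t))))
  let Y := Red.bc (S.fromSpecResidueField t) G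
  haveI : IsAffine Y.left := haff t
  haveI : IsAffine (Red.bc σ Y).left := by
    haveI : IsAffineHom (pullback.fst Y.hom σ) := MorphismProperty.pullback_fst _ _ inferInstance
    exact isAffine_of_isAffineHom (pullback.fst Y.hom σ)
  let cX := (Over.forget _).mapIso (ActBC.bcCompIso σ (S.fromSpecResidueField t) G rfl)
  haveI : IsAffine ((Over.forget _).obj (Red.bc σ (Red.bc (S.fromSpecResidueField t) G))) :=
    ‹IsAffine (Red.bc σ Y).left›
  exact IsAffine.of_isIso cX.inv

/-- torus geometric fibres give torus fibres -/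
theorem isTorus_of_geomFibre (t : S) (htor : Red.IsTorus (Red.geomFibre t G)) :
    Red.IsTorus (Red.bc (S.fromSpecResidueField t) G) := by
  let σ : Spec (CommRingCat.of (AlgebraicClosure (S.residueField t))) ⟶ Spec (S.residueField t) :=
    Spec.map (CommRingCat.ofHom (algebraMap (S.residueField t) (AlgebraicClosure (S.residueField t))))
  obtain ⟨hσs, hσf, hσq⟩ := Groth.L08.Borel.bc_props_field σ
  refine Groth.L08.Borel.isTorus_descend σ (fun W hW => ?_)
    (TorLift.isTorus_of_iso (Grp.mkIso' (ActBC.bcCompIso σ (S.fromSpecResidueField t) G rfl)).symm htor)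
  rcases Set.eq_empty_or_nonempty (SetLike.coe W) with h0 | ⟨z, hz⟩
  · exact ⟨⊥, isCompact_empty, by simp [h0]⟩
  refine ⟨⊤, isCompact_univ, ?_⟩
  haveI := hσs
  rw [TopologicalSpace.Opens.coe_top, Set.image_univ, σ.surjective.range_eq]
  refine (Set.eq_univ_of_forall fun y => ?_).symm
  convert hz using 1
  exact Subsingleton.elim (α := PrimeSpectrum (S.residueField t)) _ _

/-- the point over a residue field of a point of the local scheme -/
theorem genPt_comp {s t : S} (hts : t ⤳ s) {V : Type u} [CommRing V] {L : Type u} [Field L] [Algebra V L]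
    (e₀ : S.residueField t →+* L) (g : S.presheaf.stalk s →+* V)
    (h : (algebraMap V L).comp g = e₀.comp ((S.residue t).hom.comp (S.presheaf.stalkSpecializes hts).hom)) :
    genPtOf V L ≫ Spec.map (CommRingCat.ofHom g) ≫ S.fromSpecStalk s =
      Spec.map (CommRingCat.ofHom e₀) ≫ S.fromSpecResidueField t := by
  have e : CommRingCat.ofHom g ≫ CommRingCat.ofHom (algebraMap V L) =
      S.presheaf.stalkSpecializes hts ≫ S.residue t ≫ CommRingCat.ofHom e₀ := by
    apply CommRingCat.hom_ext
    exact h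
  simp only [genPtOf, Scheme.fromSpecResidueField, ← Spec.map_comp_assoc]
  rw [e, Spec.map_comp_assoc, Spec.map_comp_assoc, Scheme.SpecMap_stalkSpecializes_fromSpecStalk,
    Spec.map_comp_assoc]
  rfl

/-- the closed point goes to `s` -/
theorem resClosed_comp {s : S} {V : Type u} [CommRing V] [IsDomain V] [ValuationRing V] (g : S.presheaf.stalk s →+* V)
    [IsLocalHom g] :
    (resClosed V ≫ Spec.map (CommRingCat.ofHom g) ≫ S.fromSpecStalk s) (IsLocalRing.closedPoint _) = s := by
  haveI : IsLocalHom (algebraMap V (IsLocalRing.ResidueField V)) :=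
    IsLocalHom.of_surjective _ IsLocalRing.residue_surjective
  have h1 : resClosed V (IsLocalRing.closedPoint _) = IsLocalRing.closedPoint V := IsLocalRing.comap_closedPoint _
  rw [Scheme.Hom.comp_apply, h1, Scheme.Hom.comp_apply]
  exact (congrArg (S.fromSpecStalk s) (IsLocalRing.comap_closedPoint g)).trans Scheme.fromSpecStalk_closedPoint

/-- a torus special fibre of the base change to a valuation ring -/
theorem isTorus_special {s : S} {V : Type u} [CommRing V] [IsDomain V] [ValuationRing V]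
    (f : Spec (CommRingCat.of V) ⟶ S) (hf : (resClosed V ≫ f) (IsLocalRing.closedPoint _) = s)
    (hs : Red.IsTorus (Red.bc (S.fromSpecResidueField s) G)) : Red.IsTorus (Red.bc (resClosed V) (Red.bc f G)) := by
  refine TorLift.isTorus_of_iso (Grp.mkIso' (ActBC.bcCompIso (resClosed V) f G rfl)).symm ?_
  refine isTorus_comp _ _ _ (Scheme.descResidueField_stalkClosedPointTo_fromSpecResidueField _ S (resClosed V ≫ f)) ?_
  rw [hf]
  exact hs

/-- fibres of smooth groups at generisations of a torus fibre are tori -/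
theorem isTorus_of_specializes [Smooth G.hom] [IsSeparated G.hom] [QuasiCompact G.hom]
    (hconn : ∀ t : S, ConnectedSpace ↥(pullback G.hom (S.fromSpecResidueField t)))
    (haff : ∀ t : S, IsAffine (pullback G.hom (S.fromSpecResidueField t))) {t s : S} (hts : t ⤳ s)
    (hs : Red.IsTorus (Red.bc (S.fromSpecResidueField s) G)) :
    Red.IsTorus (Red.bc (S.fromSpecResidueField t) G) := by
  refine isTorus_of_geomFibre t ?_
  let L := AlgebraicClosure (S.residueField t)
  obtain ⟨V, g, hg, hgφ, -⟩ := Groth.L19.SpecSub.exists_dominating_algebraic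
    ((algebraMap (S.residueField t) L).comp ((S.residue t).hom.comp (S.presheaf.stalkSpecializes hts).hom))
  haveI := hg
  haveI : IsAlgClosed (IsLocalRing.ResidueField V) := Groth.L06.EmbLift.isAlgClosed_residueField V
  let f : Spec (CommRingCat.of V) ⟶ S := Spec.map (CommRingCat.ofHom g) ≫ S.fromSpecStalk s
  haveI : Smooth (Red.bc f G).hom := MorphismProperty.pullback_snd _ _ ‹Smooth G.hom›
  haveI : IsSeparated (Red.bc f G).hom := MorphismProperty.pullback_snd _ _ ‹IsSeparated G.hom›
  haveI : Smooth (Red.geomFibre t G).hom := MorphismProperty.pullback_snd _ _ ‹Smooth G.hom›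
  haveI : IrreducibleSpace (Red.geomFibre t G).left := Groth.L02.SchDom.irrFib_of_group G hconn L (Red.geomPt t)
  haveI := isAffine_geomFibre haff t
  exact isTorus_generic_of_special (Red.bc f G) (isTorus_special f (resClosed_comp g) hs) (Red.geomFibre t G)
    (ActBC.bcCompIso (genPtOf V L) f G (genPt_comp hts _ g hgφ))

/-- affineness near a torus fibre -/
theorem exists_affine_nhd [IsLocallyNoetherian S] [Smooth G.hom] [QuasiCompact G.hom] [IsSeparated G.hom]
    (hconn : ∀ t : S, ConnectedSpace ↥(pullback G.hom (S.fromSpecResidueField t)))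
    (haff : ∀ t : S, IsAffine (pullback G.hom (S.fromSpecResidueField t)))
    (s : S) (hs : Red.IsTorus (Red.bc (S.fromSpecResidueField s) G)) :
    ∃ U : S.Opens, s ∈ U ∧ IsAffineHom (Red.bc U.ι G).hom := by
  let σ := S.fromSpecStalk s
  -- affineness near `s`
  let G₀ := Red.bc σ G
  haveI : Smooth G₀.hom := MorphismProperty.pullback_snd _ _ ‹Smooth G.hom›
  haveI : IsSeparated G₀.hom := MorphismProperty.pullback_snd _ _ ‹IsSeparated G.hom›
  haveI : QuasiCompact G₀.hom := MorphismProperty.pullback_snd _ _ ‹QuasiCompact G.hom›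
  have hfib₀ : ∀ t, Red.IsTorus (Red.bc ((Spec (S.presheaf.stalk s)).fromSpecResidueField t) G₀) := by
    intro t
    refine TorLift.isTorus_of_iso (Grp.mkIso' (ActBC.bcCompIso _ σ G rfl)).symm ?_
    let K := (Spec (S.presheaf.stalk s)).residueField t
    refine isTorus_comp _ _ _ (Scheme.descResidueField_stalkClosedPointTo_fromSpecResidueField K S _) ?_
    refine isTorus_of_specializes hconn haff ?_ hs
    rw [Scheme.Hom.comp_apply]
    exact (S.range_fromSpecStalk (x := s)).le ⟨_, rfl⟩
  haveI : IsAffineHom G₀.hom := isAffineHom_of_torus_fibres G₀ hfib₀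
  have hq : Groth.L19.Limit.qcqsfp G.hom := ⟨⟨inferInstance, inferInstance⟩, inferInstance⟩
  obtain ⟨W, hsW, hW⟩ := Groth.L19.Limit.exists_nhd_pb G.hom (𝟙 S) s _root_.L02.ConsP.descends_isAffineHom' hq (by
    have h1 : pullback.fst (𝟙 S) (S.fromSpecStalk s) = pullback.snd (𝟙 S) (S.fromSpecStalk s) ≫ σ := by
      rw [← pullback.condition, Category.comp_id]
    refine (Groth.L19.Limit.pb_iff_of_isPullback (IsPullback.of_hasPullback G.hom _)).1 ?_
    have h2 : IsPullback (pullback.map G.hom (pullback.fst (𝟙 S) σ) G.hom σ (𝟙 _) (pullback.snd (𝟙 S) σ) (𝟙 _)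
        (by simp) (by rw [Category.comp_id]; exact h1))
        (pullback.snd G.hom (pullback.fst (𝟙 S) σ)) G₀.hom (pullback.snd (𝟙 S) σ) := by
      refine IsPullback.of_right ?_ (pullback.lift_snd _ _ _) (IsPullback.of_hasPullback G.hom σ)
      rw [pullback.lift_fst, Category.comp_id, ← h1]
      exact IsPullback.of_hasPullback _ _
    exact MorphismProperty.of_isPullback (P := @IsAffineHom) h2 inferInstance)
  exact ⟨(𝟙 S) ⁻¹ᵁ W, hsW,
    (Groth.L19.Limit.pb_iff_of_isPullback (IsPullback.of_hasPullback G.hom _)).2 hW⟩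

/-- neighbourhood, smooth case -/
theorem exists_nhd_of_smooth [IsLocallyNoetherian S] [Smooth G.hom] [QuasiCompact G.hom] [IsSeparated G.hom]
    (hconn : ∀ t : S, ConnectedSpace ↥(pullback G.hom (S.fromSpecResidueField t)))
    (haff : ∀ t : S, IsAffine (pullback G.hom (S.fromSpecResidueField t)))
    (s : S) (hs : Red.IsTorus (Red.bc (S.fromSpecResidueField s) G)) :
    ∃ U : S.Opens, s ∈ U ∧ Red.IsTorus (Red.bc U.ι G) := by
  obtain ⟨W', hsW, hW'⟩ := exists_affine_nhd hconn haff s hs
  let G₁ := Red.bc W'.ι G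
  haveI : IsAffineHom G₁.hom := hW'
  haveI : Smooth G₁.hom := MorphismProperty.pullback_snd _ _ ‹Smooth G.hom›
  haveI : QuasiCompact G₁.hom := MorphismProperty.pullback_snd _ _ ‹QuasiCompact G.hom›
  let s₁ : W'.toScheme := ⟨s, hsW⟩
  have hconn₁ := connected_bc hconn W'
  -- a split torus near `s`
  have htor : Red.IsTorus (Red.geomFibre s₁ G₁) := by
    refine Groth.L25.Locus.isTorus_bc ?_ (Spec.map (CommRingCat.ofHom (algebraMap (W'.toScheme.residueField s₁) (AlgebraicClosure (W'.toScheme.residueField s₁))))) |> fun h => TorLift.isTorus_of_iso (Grp.mkIso' (ActBC.bcCompIso _ (W'.toScheme.fromSpecResidueField s₁) G₁ rfl)) h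
    refine TorLift.isTorus_of_iso (Grp.mkIso' (ActBC.bcCompIso _ W'.ι G rfl)).symm ?_
    let K := W'.toScheme.residueField s₁
    refine isTorus_comp _ _ _ (Scheme.descResidueField_stalkClosedPointTo_fromSpecResidueField K S _) ?_
    rw [show (W'.toScheme.fromSpecResidueField s₁ ≫ W'.ι) (IsLocalRing.closedPoint K) = s by
      rw [Scheme.Hom.comp_apply, Scheme.fromSpecResidueField_apply]; rfl]
    exact hs
  obtain ⟨r, hr⟩ := Groth.L08.Borel.exists_split_rank htor
  obtain ⟨E⟩ := hr
  let v : Red.DS _ (Fin r → ℤ) ⟶ Red.geomFibre s₁ G₁ := E.inv.hom.hom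
  haveI : IsMonHom v := E.inv.hom.isMonHom_hom
  haveI : IsIso v := ⟨E.hom.hom.hom, congr($(E.inv_hom_id).hom.hom), congr($(E.hom_inv_id).hom.hom)⟩
  obtain ⟨S', e, w, he, ⟨s', hs'⟩, hwh, hwm⟩ := Groth.L08.Borel.exists_torus_nhd s₁ v
  haveI := he; haveI := hwh; haveI := hwm
  let G₂ := Red.bc e G₁
  haveI : Smooth G₂.hom := MorphismProperty.pullback_snd _ _ ‹Smooth G₁.hom›
  haveI : LocallyOfFiniteType G₂.hom := inferInstance
  let D := Red.DS S' (Fin r → ℤ)
  haveI : Smooth D.hom := Groth.L25.SplitSub.smooth_DS S' r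
  have hirr : Groth.L02.SchDom.IrrFib G₂.hom :=
    (Groth.L02.SchDom.irrFib_of_group G₁ hconn₁).baseChange e
  -- the chart is an isomorphism on the fibre over `s₁`
  let b := Red.geomPt s'
  let F := (Over.pullback b).map w
  haveI : IsMonHom F := inferInstance
  haveI : Mono F := Functor.map_mono _ _
  have hsplit₁ : Red.IsSplitTorusWith (Fin r → ℤ) (Red.geomFibre s₁ G₁) := ⟨E⟩
  have hsplit₂ : Red.IsSplitTorusWith (Fin r → ℤ) (Red.geomFibre s' G₂) := by
    obtain ⟨θ, hθ⟩ : ∃ θ : Spec (CommRingCat.of (AlgebraicClosure (S'.residueField s'))) ⟶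
        Spec (CommRingCat.of (AlgebraicClosure (W'.toScheme.residueField s₁))),
        θ ≫ Red.geomPt s₁ = Red.geomPt s' ≫ e := hs' ▸ Groth.L08.Borel.exists_geomPt_map e s'
    haveI : IsMonHom (ActBC.bcCompIso (Red.geomPt s') e G₁ rfl).symm.hom :=
      inferInstanceAs (IsMonHom (ActBC.bcCompIso (Red.geomPt s') e G₁ rfl).inv)
    exact Groth.L08.Borel.isSplit_iso (ActBC.bcCompIso (Red.geomPt s') e G₁ rfl).symm
      (Groth.L08.Borel.isSplit_of_pt (Red.geomPt s₁) hsplit₁ θ _ hθ)
  haveI : IsIso F := Groth.L08.Borel.isIso_of_rank_le F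
    (Groth.L08.Borel.isSplit_bc b (Groth.L25.SplitSub.isSplitTorusWith_DS _ _)) hsplit₂ le_rfl
  obtain ⟨U', hs'U, hU'⟩ := Groth.L08.Borel.exists_open_isOpenImmersion w s' (by
    haveI : IsIso F.left := inferInstanceAs (IsIso ((Over.forget _).map F))
    exact Groth.L08.Borel.flat_fibre_of_geomFibre w s' inferInstance)
  let S'' := U'.toScheme
  haveI : IsOpenImmersion ((Over.pullback U'.ι).map w).left := hU' U'.ι (by rw [Scheme.Opens.range_ι])
  haveI : Smooth (Red.bc U'.ι D).hom := MorphismProperty.pullback_snd _ _ ‹Smooth D.hom›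
  haveI : LocallyOfFiniteType (Red.bc U'.ι G₂).hom :=
    MorphismProperty.pullback_snd _ _ ‹LocallyOfFiniteType G₂.hom›
  haveI : IsMonHom ((Over.pullback U'.ι).map w) := inferInstance
  haveI : Mono ((Over.pullback U'.ι).map w) := Functor.map_mono _ _
  haveI : IsIso ((Over.pullback U'.ι).map w) :=
    Groth.L08.Borel.isIso_of_open_subgroup (hirr.baseChange U'.ι) _
  haveI : IsMonHom (asIso ((Over.pullback U'.ι).map w)).hom :=
    inferInstanceAs (IsMonHom ((Over.pullback U'.ι).map w))
  have hT : Red.IsTorus (Red.bc U'.ι G₂) := TorLift.isTorus_of_iso (Grp.mkIso' (asIso ((Over.pullback U'.ι).map w)))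
    (Groth.L25.Locus.isTorus_bc (Groth.L08.Borel.isTorus_ds S' r) _)
  -- descend to the image
  let c : S'' ⟶ S := U'.ι ≫ e ≫ W'.ι
  haveI : Etale c := inferInstance
  refine ⟨⟨Set.range c, c.isOpenMap.isOpen_range⟩, ⟨⟨s', hs'U⟩, ?_⟩, ?_⟩
  · show c ⟨s', hs'U⟩ = s
    rw [Scheme.Hom.comp_apply, Scheme.Hom.comp_apply]
    show W'.ι (e s') = s
    rw [hs']
    rfl
  let U : S.Opens := ⟨Set.range c, c.isOpenMap.isOpen_range⟩
  let π : S'' ⟶ U.toScheme := IsOpenImmersion.lift U.ι c (by rw [Scheme.Opens.range_ι]; exact subset_rfl)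
  have hπ : π ≫ U.ι = c := IsOpenImmersion.lift_fac _ _ _
  haveI : Etale (π ≫ U.ι) := hπ.symm ▸ ‹Etale c›
  haveI : Etale π := MorphismProperty.of_postcomp (W := @Etale) (W' := @Etale) _ U.ι inferInstance inferInstance
  haveI : Surjective π := ⟨fun y => by
    obtain ⟨x, hx⟩ := y.2
    refine ⟨x, U.ι.isOpenEmbedding.injective ?_⟩
    rw [← Scheme.Hom.comp_apply, hπ, hx]
    rfl⟩
  refine Groth.L08.Borel.isTorus_descend π (fun V hV => ?_) ?_
  · obtain ⟨W₂, h1, h2⟩ := π.isOpenMap.exists_opens_image_eq_of_prespectralSpace π.continuous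
      (U := (V : Set U.toScheme)) (by rw [π.surjective.range_eq]; exact Set.subset_univ _) V.2 hV.isCompact
    exact ⟨W₂, h1, h2⟩
  · refine TorLift.isTorus_of_iso (Grp.mkIso' (ActBC.bcCompIso π U.ι G hπ)).symm ?_
    refine TorLift.isTorus_of_iso (Grp.mkIso' (ActBC.bcCompIso (U'.ι ≫ e) W'.ι G (Category.assoc _ _ _))) ?_
    exact TorLift.isTorus_of_iso (Grp.mkIso' (ActBC.bcCompIso U'.ι e G₁ rfl)) hT

/-- **neighbourhood** -/
theorem exists_nhd_isTorus [IsLocallyNoetherian S] [Flat G.hom] [LocallyOfFinitePresentation G.hom]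
    [QuasiCompact G.hom] [QuasiSeparated G.hom]
    (hconn : ∀ t : S, ConnectedSpace ↥(pullback G.hom (S.fromSpecResidueField t)))
    (haff : ∀ t : S, IsAffine (pullback G.hom (S.fromSpecResidueField t)))
    (s : S) (hs : Red.IsTorus (Red.bc (S.fromSpecResidueField s) G)) :
    ∃ U : S.Opens, s ∈ U ∧ Red.IsTorus (Red.bc U.ι G) := by
  obtain ⟨U₁, hsU₁, hsm⟩ := exists_smooth_nhd hconn s (Groth.L08.Borel.smooth_of_isTorus hs)
  let G₁ := Red.bc U₁.ι G
  haveI : QuasiCompact G₁.hom := MorphismProperty.pullback_snd _ _ ‹QuasiCompact G.hom›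
  haveI : Smooth G₁.hom := hsm
  haveI : IsLocallyNoetherian U₁.toScheme := inferInstance
  have hconn₁ := connected_bc hconn U₁
  haveI : IsSeparated G₁.hom := by
    refine Groth.L08.ActSep.isSeparated_of_connected (fun t => ?_) (Groth.L08.ActSep.leftMul G₁)
      (Groth.L08.ActSep.surjective_leftMul G₁)
    haveI := hconn₁ t
    rw [← Scheme.range_fromSpecResidueField, ← Scheme.Pullback.range_fst]
    exact isConnected_range (pullback.fst G₁.hom _).continuous
  let s₁ : U₁.toScheme := ⟨s, hsU₁⟩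
  have hs₁ : Red.IsTorus (Red.bc (U₁.toScheme.fromSpecResidueField s₁) G₁) := by
    refine TorLift.isTorus_of_iso (Grp.mkIso' (ActBC.bcCompIso _ U₁.ι G rfl)).symm ?_
    let K := U₁.toScheme.residueField s₁
    refine isTorus_comp _ _ _ (Scheme.descResidueField_stalkClosedPointTo_fromSpecResidueField K S _) ?_
    rw [show (U₁.toScheme.fromSpecResidueField s₁ ≫ U₁.ι) (IsLocalRing.closedPoint K) = s by
      rw [Scheme.Hom.comp_apply, Scheme.fromSpecResidueField_apply]; rfl]
    exact hs
  obtain ⟨U, hsU, hU⟩ := exists_nhd_of_smooth hconn₁ (affine_bc haff U₁) s₁ hs₁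
  refine ⟨U₁.ι ''ᵁ U, ⟨s₁, hsU, rfl⟩, ?_⟩
  refine isTorus_comp (U₁.ι.isoImage U).inv (U.ι ≫ U₁.ι) (U₁.ι ''ᵁ U).ι (by simp) ?_
  exact TorLift.isTorus_of_iso (Grp.mkIso' (ActBC.bcCompIso U.ι U₁.ι G rfl)) hU

end Groth.L25.TorusNhd
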