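import Groth.Agent.L25.TorusNhd.Cover
import Groth.Agent.L20.Chevalley.Reduction
import Groth.Agent.L22.IntegralImage
import Groth.Agent.L23.Chow.SchemeSurj
import Groth.Agent.L27.EtGlue.Complete
import Groth.Agent.S0568

/-!
# Smooth separated groups with torus fibres over Noetherian bases are affine
-/

set_option autoImplicit false
set_option backward.isDefEq.respectTransparency.types false
set_option linter.style.haveILetI false
universe u

open CategoryTheory CategoryTheory.Limits MonoidalCategory CartesianMonoidalCategory MonObj AlgebraicGeometry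

noncomputable section

namespace Groth.L25.TorusNhd

/-- the affineness over a Nagata base -/
theorem isAffine_of_nagata (R : Type u) [CommRing R] (hR : CAlg.IsNagata R)
    {G : Over (Spec (CommRingCat.of R))} [GrpObj G] [Smooth G.hom] [IsSeparated G.hom] [QuasiCompact G.hom]
    (hfib : ∀ s, Red.IsTorus (Red.bc ((Spec (CommRingCat.of R)).fromSpecResidueField s) G)) :
    IsAffine G.left := by
  haveI : IsNoetherianRing R := hR.1
  let J : Type u := minimalPrimes R
  haveI : Finite J := (minimalPrimes.finite_of_isNoetherianRing R).to_subtype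
  haveI hprime : ∀ p : J, (p.1 : Ideal R).IsPrime := fun p => p.2.1.1
  let ι' : ∀ p : J, Spec (CommRingCat.of (R ⧸ p.1)) ⟶ Spec (CommRingCat.of R) := fun p =>
    Spec.map (CommRingCat.ofHom (Ideal.Quotient.mk p.1))
  haveI : ∀ p : J, Smooth (Red.bc (ι' p) G).hom := fun p => MorphismProperty.pullback_snd _ _ ‹Smooth G.hom›
  haveI : ∀ p : J, IsSeparated (Red.bc (ι' p) G).hom := fun p =>
    MorphismProperty.pullback_snd _ _ ‹IsSeparated G.hom›
  haveI : ∀ p : J, QuasiCompact (Red.bc (ι' p) G).hom := fun p =>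
    MorphismProperty.pullback_snd _ _ ‹QuasiCompact G.hom›
  choose B hBr hBa hBfin hBinj hBaff using fun p : J =>
    exists_affine_cover (R ⧸ p.1) (hR.2 p.1) (G := Red.bc (ι' p) G) (isTorus_fibres_bc hfib (ι' p))
  let g : ∀ p : J, Spec (CommRingCat.of (B p)) ⟶ Spec (CommRingCat.of (R ⧸ p.1)) := fun p =>
    Spec.map (CommRingCat.ofHom (algebraMap (R ⧸ p.1) (B p)))
  let W : J → Scheme.{u} := fun p => (Red.bc (g p) (Red.bc (ι' p) G)).left
  let c : ∀ p : J, W p ⟶ G.left := fun p =>
    pullback.fst (Red.bc (ι' p) G).hom (g p) ≫ pullback.fst G.hom (ι' p)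
  haveI : ∀ p : J, IsFinite (g p) := fun p => (IsFinite.SpecMap_iff _).2 (RingHom.finite_algebraMap.2 (hBfin p))
  haveI : ∀ p : J, IsClosedImmersion (ι' p) := fun p =>
    IsClosedImmersion.spec_of_surjective _ Ideal.Quotient.mk_surjective
  haveI : ∀ p : J, IsFinite (c p) := fun p => by
    haveI : IsFinite (pullback.fst (Red.bc (ι' p) G).hom (g p)) := MorphismProperty.pullback_fst _ _ inferInstance
    haveI : IsFinite (pullback.fst G.hom (ι' p)) := MorphismProperty.pullback_fst _ _ inferInstance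
    infer_instance
  haveI : IsFinite (Sigma.desc c) := Groth.L23.Chow.isFinite_sigmaDesc c
  haveI : ∀ p : J, IsAffine (W p) := hBaff
  haveI : Surjective (Sigma.desc c) := ⟨fun x => by
    obtain ⟨P, hP, hle⟩ := Ideal.exists_minimalPrimes_le (I := ⊥) (J := (G.hom x).asIdeal) bot_le
    let p : J := ⟨P, hP⟩
    obtain ⟨y, hy⟩ : G.hom x ∈ Set.range (ι' p) := by
      have h1 : Set.range (ι' p) = PrimeSpectrum.zeroLocus (RingHom.ker (Ideal.Quotient.mk p.1) : Set R) :=
        range_comap_of_surjective _ _ Ideal.Quotient.mk_surjective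
      rw [h1, Ideal.mk_ker]
      exact hle
    haveI : FaithfulSMul (R ⧸ p.1) (B p) := (faithfulSMul_iff_algebraMap_injective _ _).2 (hBinj p)
    haveI : Algebra.IsIntegral (R ⧸ p.1) (B p) := Algebra.IsIntegral.of_finite _ _
    obtain ⟨Q, -, hQ, hQy⟩ := Ideal.exists_ideal_over_prime_of_isIntegral y.asIdeal (⊥ : Ideal (B p)) (by
      intro a ha
      rw [Ideal.mem_comap, Ideal.mem_bot] at ha
      rw [(map_eq_zero_iff _ (hBinj p)).1 ha]
      exact zero_mem _)
    let z : Spec (CommRingCat.of (B p)) := ⟨Q, hQ⟩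
    have hz : g p z = y := PrimeSpectrum.ext hQy
    obtain ⟨x₁, hx₁, hx₁'⟩ := Scheme.Pullback.exists_preimage_pullback (f := G.hom) (g := ι' p) x y hy.symm
    obtain ⟨x₂, hx₂, -⟩ := Scheme.Pullback.exists_preimage_pullback (f := (Red.bc (ι' p) G).hom) (g := g p) x₁ z
      (hx₁'.trans hz.symm)
    refine ⟨Sigma.ι W p x₂, ?_⟩
    rw [← Scheme.Hom.comp_apply, Sigma.ι_desc]
    show (pullback.fst (Red.bc (ι' p) G).hom (g p) ≫ pullback.fst G.hom (ι' p)) x₂ = x
    rw [Scheme.Hom.comp_apply, hx₂, hx₁]⟩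
  exact Groth.L20.Chevalley.isAffine_of_surjective_universallyClosed (Sigma.desc c)

/-- **affineness** -/
theorem isAffineHom_of_torus_fibres {S : Scheme.{u}} [IsLocallyNoetherian S] (G : Over S) [GrpObj G] [Smooth G.hom]
    [IsSeparated G.hom] [QuasiCompact G.hom]
    (hfib : ∀ s : S, Red.IsTorus (Red.bc (S.fromSpecResidueField s) G)) : IsAffineHom G.hom := by
  refine IsZariskiLocalAtTarget.of_iSup_eq_top (P := @IsAffineHom) _ (iSup_affineOpens_eq_top S) fun U => ?_
  haveI : IsAffine (U.1 : Scheme.{u}) := U.2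
  haveI : IsNoetherianRing Γ(S, U.1) := IsLocallyNoetherian.component_noetherian U
  let R := Γ(S, U.1)
  let j : Spec R ⟶ S := U.2.fromSpec
  let G' := Red.bc j G
  haveI : Smooth G'.hom := MorphismProperty.pullback_snd _ _ ‹Smooth G.hom›
  haveI : IsSeparated G'.hom := MorphismProperty.pullback_snd _ _ ‹IsSeparated G.hom›
  haveI : QuasiCompact G'.hom := MorphismProperty.pullback_snd _ _ ‹QuasiCompact G.hom›
  haveI : CompactSpace G'.left := QuasiCompact.compactSpace_of_compactSpace G'.hom
  haveI : QuasiSeparatedSpace G'.left := quasiSeparatedSpace_of_quasiSeparated G'.hom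
  have hfib' := isTorus_fibres_bc hfib j
  have haff : IsAffine G'.left := Groth.L22.IntImage.isAffine_of_pointwise G'.hom fun s => by
    let A := Localization.AtPrime s.asIdeal
    haveI : IsNoetherianRing A := IsLocalization.isNoetherianRing s.asIdeal.primeCompl A inferInstance
    let C := AdicCompletion (IsLocalRing.maximalIdeal A) A
    haveI : IsNoetherianRing C :=
      Groth.L01.AdicNoeth.isNoetherianRing_adicCompletion _ (IsLocalRing.maximalIdeal A).fg_of_isNoetherianRing
    have hff := Groth.L27.EtGlue.faithfullyFlat_completion A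
    have hCN : CAlg.IsNagata C := Groth.Agent.S0568.result C
    let t₁ : Spec (CommRingCat.of C) ⟶ Spec (CommRingCat.of A) :=
      Spec.map (CommRingCat.ofHom (algebraMap A C))
    let t₂ : Spec (CommRingCat.of A) ⟶ Spec R := Spec.map (CommRingCat.ofHom (algebraMap R A))
    haveI : Flat t₁ := (HasRingHomProperty.Spec_iff (P := @Flat)).2 hff.flat
    haveI : Flat t₂ := (HasRingHomProperty.Spec_iff (P := @Flat)).2
      (RingHom.flat_algebraMap_iff.2 (IsLocalization.flat _ s.asIdeal.primeCompl))
    have hsurj := (RingHom.FaithfullyFlat.iff_flat_and_comap_surjective.1 hff).2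
    refine ⟨Spec (CommRingCat.of C), t₁ ≫ t₂, inferInstance, inferInstance, ?_, ?_⟩
    · obtain ⟨z, hz⟩ := hsurj (IsLocalRing.closedPoint A)
      refine ⟨z, ?_⟩
      rw [Scheme.Hom.comp_apply]
      show t₂ (PrimeSpectrum.comap (algebraMap A C) z) = s
      rw [hz]
      exact PrimeSpectrum.ext (Localization.AtPrime.under_maximalIdeal)
    · let G'' := Red.bc (t₁ ≫ t₂) G'
      haveI : Smooth G''.hom := MorphismProperty.pullback_snd _ _ ‹Smooth G'.hom›
      haveI : IsSeparated G''.hom := MorphismProperty.pullback_snd _ _ ‹IsSeparated G'.hom›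
      haveI : QuasiCompact G''.hom := MorphismProperty.pullback_snd _ _ ‹QuasiCompact G'.hom›
      exact isAffine_of_nagata C hCN (isTorus_fibres_bc hfib' _)
  haveI : IsAffineHom G'.hom := isAffineHom_of_isAffine _
  have hw : U.2.isoSpec.hom ≫ j = U.1.ι := U.2.isoSpec_hom_fromSpec
  have h := (isPullback_morphismRestrict G.hom U.1).flip
  let l := pullback.lift (G.hom ⁻¹ᵁ U.1).ι ((G.hom ∣_ U.1) ≫ U.2.isoSpec.hom) (by
    rw [Category.assoc, hw, h.w] : (G.hom ⁻¹ᵁ U.1).ι ≫ G.hom = ((G.hom ∣_ U.1) ≫ U.2.isoSpec.hom) ≫ j)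
  have sq : IsPullback l (G.hom ∣_ U.1) G'.hom U.2.isoSpec.hom := by
    refine IsPullback.of_right ?_ (pullback.lift_snd _ _ _) (IsPullback.of_hasPullback G.hom j)
    rw [pullback.lift_fst, hw]
    exact h
  exact MorphismProperty.of_isPullback (P := @IsAffineHom) sq inferInstance

end Groth.L25.TorusNhd
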