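import Groth.Agent.L25.TorusNhd.NormalBase
import Groth.Agent.L05.NeronFinite.Dedekind
import Groth.Agent.L25.TorLift.Central
import Groth.Prelude.Def_Found
import Mathlib.RingTheory.DedekindDomain.IntegralClosure

/-!
# Groups with torus fibres become affine over a finite cover of an N-2 base
-/

set_option autoImplicit false
set_option backward.isDefEq.respectTransparency.types false
set_option linter.style.haveILetI false
universe u

open CategoryTheory CategoryTheory.Limits MonoidalCategory CartesianMonoidalCategory MonObj AlgebraicGeometry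

noncomputable section

namespace Groth.L25.TorusNhd

variable {S : Scheme.{u}} {G : Over S} [GrpObj G]

/-- base changes of base changes -/
theorem isTorus_comp {P Q : Scheme.{u}} (σ : Q ⟶ P) (c : P ⟶ S) (b : Q ⟶ S) (h : σ ≫ c = b)
    (hT : Red.IsTorus (Red.bc c G)) : Red.IsTorus (Red.bc b G) :=
  TorLift.isTorus_of_iso (Grp.mkIso' (ActBC.bcCompIso σ c G h)) (Groth.L25.Locus.isTorus_bc hT σ)

/-- torus fibres give tori at every field point -/
theorem isTorus_point (hfib : ∀ s : S, Red.IsTorus (Red.bc (S.fromSpecResidueField s) G)) {K : Type u} [Field K]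
    (x : Spec (CommRingCat.of K) ⟶ S) : Red.IsTorus (Red.bc x G) :=
  isTorus_comp _ _ x (Scheme.descResidueField_stalkClosedPointTo_fromSpecResidueField K S x) (hfib _)

/-- torus fibres are stable under base change -/
theorem isTorus_fibres_bc (hfib : ∀ s : S, Red.IsTorus (Red.bc (S.fromSpecResidueField s) G)) {S' : Scheme.{u}}
    (f : S' ⟶ S) (t : S') : Red.IsTorus (Red.bc (S'.fromSpecResidueField t) (Red.bc f G)) :=
  TorLift.isTorus_of_iso (Grp.mkIso' (ActBC.bcCompIso (S'.fromSpecResidueField t) f G rfl)).symm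
    (isTorus_point hfib _)

/-- a torus over a field splits over a finite extension -/
theorem exists_finite_split {K : Type u} [Field K] {T : Over (Spec (CommRingCat.of K))} [GrpObj T]
    (hT : Red.IsTorus T) : ∃ (L : Type u) (_ : Field L) (_ : Algebra K L) (_ : FiniteDimensional K L) (r : ℕ),
      Red.IsSplitTorusWith (Fin r → ℤ) (Red.bc (Spec.map (CommRingCat.ofHom (algebraMap K L))) T) := by
  obtain ⟨T₀, f₀, hf₀, ⟨t, -⟩, M, _, -, ⟨e⟩⟩ :=
    Groth.L25.Extend.exists_etale_split (Groth.L25.Locus.isMultTypeFT_of_isTorus hT) (IsLocalRing.closedPoint K)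
  haveI : Etale f₀ := hf₀
  obtain ⟨V, hV, htV, -⟩ := exists_isAffineOpen_mem_and_subset (X := T₀) (x := t) (U := ⊤) trivial
  let t' : V.toScheme := ⟨t, htV⟩
  haveI : IsAffine V.toScheme := hV
  haveI : IsLocallyArtinian (Spec (CommRingCat.of K)) := Scheme.isLocallyArtinianScheme_Spec.2 inferInstance
  haveI : IsFinite (V.ι ≫ f₀) := IsFinite.of_locallyQuasiFinite _
  haveI : IsLocallyArtinian V.toScheme := IsLocallyArtinian.of_locallyQuasiFinite (V.ι ≫ f₀)
  haveI : IsClosedImmersion (V.toScheme.fromSpecResidueField t') :=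
    (isClosed_singleton_iff_isClosedImmersion).1 (isClosed_discrete _)
  let j := V.toScheme.fromSpecResidueField t' ≫ V.ι ≫ f₀
  haveI : IsFinite j := inferInstance
  let L : Type u := V.toScheme.residueField t'
  obtain ⟨θ, hθ⟩ := Spec.map_surjective j
  letI : Algebra K L := θ.hom.toAlgebra
  haveI : FiniteDimensional K L := by
    have h1 : IsFinite (Spec.map θ) := hθ.symm ▸ inferInstance
    exact RingHom.finite_algebraMap.1 ((IsFinite.SpecMap_iff _).1 h1)
  let σ : Spec (CommRingCat.of (AlgebraicClosure L)) ⟶ Spec (CommRingCat.of L) :=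
    Spec.map (CommRingCat.ofHom (algebraMap L (AlgebraicClosure L)))
  have eL : Grp.mk (Red.bc (Spec.map θ) T) ≅ Grp.mk (Red.DS (Spec (CommRingCat.of L)) M) :=
    TrivLocus.restrictIso f₀ (V.toScheme.fromSpecResidueField t' ≫ V.ι) e
      ((Category.assoc _ _ _).trans hθ.symm)
  obtain ⟨r, ⟨er⟩⟩ := Groth.L08.Borel.exists_split_rank
    (Groth.L25.Locus.isTorus_bc hT (σ ≫ Spec.map θ))
  obtain ⟨φ⟩ := Groth.L25.TorLift.addEquiv_of_ds ((TrivLocus.restrictIso (Spec.map θ) σ eL rfl).symm ≪≫ er)
  exact ⟨L, inferInstance, inferInstance, inferInstance, r, ⟨eL ≪≫ Groth.L25.TorLift.dsCongr _ φ⟩⟩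

/-- a normal finite cover with affine base change -/
theorem exists_affine_cover (A : Type u) [CommRing A] [IsDomain A] [IsNoetherianRing A] (hA : CAlg.IsN2 A)
    {G : Over (Spec (CommRingCat.of A))} [GrpObj G] [Smooth G.hom] [IsSeparated G.hom] [QuasiCompact G.hom]
    (hfib : ∀ s, Red.IsTorus (Red.bc ((Spec (CommRingCat.of A)).fromSpecResidueField s) G)) :
    ∃ (B : Type u) (_ : CommRing B) (_ : Algebra A B), Module.Finite A B ∧ Function.Injective (algebraMap A B) ∧
      IsAffine (Red.bc (Spec.map (CommRingCat.ofHom (algebraMap A B))) G).left := by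
  let K := FractionRing A
  let jK : Spec (CommRingCat.of K) ⟶ Spec (CommRingCat.of A) := Spec.map (CommRingCat.ofHom (algebraMap A K))
  obtain ⟨L, _, _, hfinL, r, hsplit⟩ := exists_finite_split (isTorus_point hfib jK)
  letI : Algebra A L := ((algebraMap K L).comp (algebraMap A K)).toAlgebra
  haveI : IsScalarTower A K L := IsScalarTower.of_algebraMap_eq fun _ => rfl
  let B := integralClosure A L
  haveI : Module.Finite A B := hA L hfinL
  haveI : IsNoetherianRing B := IsNoetherianRing.of_finite A B
  haveI : IsFractionRing B L := integralClosure.isFractionRing_of_finite_extension K L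
  haveI : IsIntegrallyClosed B := integralClosure.isIntegrallyClosedOfFiniteExtension K
  let f : Spec (CommRingCat.of B) ⟶ Spec (CommRingCat.of A) := Spec.map (CommRingCat.ofHom (algebraMap A B))
  refine ⟨B, inferInstance, inferInstance, inferInstance, ?_, ?_⟩
  · intro x y hxy
    exact IsFractionRing.injective A K ((algebraMap K L).injective (congrArg Subtype.val hxy))
  let S' := Spec (CommRingCat.of B)
  let G' := Red.bc f G
  haveI : Smooth G'.hom := MorphismProperty.pullback_snd _ _ ‹Smooth G.hom›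
  haveI : IsSeparated G'.hom := MorphismProperty.pullback_snd _ _ ‹IsSeparated G.hom›
  haveI : QuasiCompact G'.hom := MorphismProperty.pullback_snd _ _ ‹QuasiCompact G.hom›
  have hfib' := isTorus_fibres_bc hfib f
  have hS : Pi1.IsNormalScheme S' := Groth.L05.NeronFinite.isNormalScheme_spec fun p _ =>
    ⟨IsLocalization.isDomain_of_atPrime (Localization.AtPrime p) p,
      isIntegrallyClosed_of_isLocalization _ p.primeCompl p.primeCompl_le_nonZeroDivisors⟩
  -- the generic point
  let q := S'.fromSpecResidueField (genericPoint S')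
  obtain ⟨ψ, hψ⟩ := Spec.map_surjective q
  have hψinj : Function.Injective ψ := by
    rw [injective_iff_map_eq_zero]
    intro b hb
    have h1 : (Spec.map ψ) (IsLocalRing.closedPoint _) = genericPoint S' := by
      rw [hψ]; exact Scheme.fromSpecResidueField_apply _ _
    have h2 : (genericPoint S').asIdeal = ⊥ := by
      rw [genericPoint_eq_bot_of_affine]
      rfl
    have h3 : b ∈ (genericPoint S').asIdeal := by
      rw [← h1]
      show ψ b ∈ (IsLocalRing.closedPoint _).asIdeal
      rw [hb]
      exact zero_mem _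
    rwa [h2] at h3
  let l : L →+* S'.residueField (genericPoint S') := IsFractionRing.lift (g := ψ.hom) hψinj
  let w : Spec (S'.residueField (genericPoint S')) ⟶ Spec (CommRingCat.of L) := Spec.map (CommRingCat.ofHom l)
  let σ : Spec (CommRingCat.of L) ⟶ Spec (CommRingCat.of K) := Spec.map (CommRingCat.ofHom (algebraMap K L))
  have hw : w ≫ σ ≫ jK = q ≫ f := by
    rw [← hψ]
    simp only [w, σ, jK, f, ← Spec.map_comp]
    congr 1
    ext a
    simp only [CommRingCat.hom_comp, CommRingCat.hom_ofHom, RingHom.comp_apply]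
    rw [show algebraMap K L (algebraMap A K a) = algebraMap B L (algebraMap A B a) from rfl]
    exact IsFractionRing.lift_algebraMap hψinj (algebraMap A B a)
  have hq : Red.IsSplitTorusWith (Fin r → ℤ) (Red.bc q G') := by
    have h1 : Red.IsSplitTorusWith (Fin r → ℤ) (Red.bc (σ ≫ jK) G) :=
      Groth.L08.Borel.isSplit_iso (ActBC.bcCompIso σ jK G rfl) hsplit
    have h2 := Groth.L08.Borel.isSplit_of_pt (σ ≫ jK) h1 w (q ≫ f) hw
    haveI : IsMonHom (ActBC.bcCompIso q f G rfl).symm.hom :=
      inferInstanceAs (IsMonHom (ActBC.bcCompIso q f G rfl).inv)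
    exact Groth.L08.Borel.isSplit_iso (ActBC.bcCompIso q f G rfl).symm h2
  obtain ⟨E⟩ := hq
  let uη : Groth.L25.Extend.Hη G' ⟶ Red.bc q (Red.DS S' (Fin r → ℤ)) := E.hom.hom.hom ≫ (SplitSub.bcDS q).inv
  haveI : IsMonHom (SplitSub.bcDS (N := Fin r → ℤ) q).hom := SplitSub.isMonHom_bcDS q
  haveI : IsMonHom E.hom.hom.hom := E.hom.hom.isMonHom_hom
  haveI : IsMonHom uη := inferInstanceAs (IsMonHom (_ ≫ _))
  haveI : IsIso E.hom.hom.hom := ⟨E.inv.hom.hom, congrArg (fun x => x.hom.hom) E.hom_inv_id,
    congrArg (fun x => x.hom.hom) E.inv_hom_id⟩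
  haveI : IsIso uη := inferInstanceAs (IsIso (_ ≫ _))
  obtain ⟨u, hu, hue⟩ := Groth.L25.Extend.exists_extension G' (Red.DS S' (Fin r → ℤ))
    (fun s => Groth.L13.TorusConn.connectedSpace (Red.bc (S'.fromSpecResidueField s) G') (hfib' s)) hS
    (Groth.L25.Locus.isMultTypeFT_of_isTorus (Groth.L08.Borel.isTorus_ds S' r)) uη
  haveI := hu
  haveI : IsIso ((Over.pullback q).map u) := by rw [hue]; infer_instance
  haveI := isIso_of_generic hfib' u hS
  haveI : IsAffineHom (Red.DS S' (Fin r → ℤ)).hom :=
    Central.isAffineHom_of_multTypeFT (Locus.isMultTypeFT_of_isTorus (Groth.L08.Borel.isTorus_ds S' r))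
  haveI : IsAffine (Red.DS S' (Fin r → ℤ)).left := isAffine_of_isAffineHom (Red.DS S' (Fin r → ℤ)).hom
  haveI : IsIso u.left := inferInstanceAs (IsIso ((Over.forget _).map u))
  exact IsAffine.of_isIso u.left

end Groth.L25.TorusNhd
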