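import Groth.Agent.L25.TorusNhd.SplitField
import Groth.Agent.L25.Extend.Main
import Groth.Agent.L19.BiratNormal
import Groth.Agent.L08.Borel.RedRankTorus
import Groth.Agent.L08.Borel.FlatNhd
import Groth.Agent.L08.Borel.NormOpen
import Groth.Agent.L13.TorusConn
import Groth.Agent.L24.GrpdField.SubGrpd
import Mathlib.NumberTheory.Bertrand
import Mathlib.AlgebraicGeometry.ZariskisMainTheorem

/-!
# Groups with torus fibres over normal bases and split generic fibre are split tori
-/

set_option autoImplicit false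
set_option backward.isDefEq.respectTransparency.types false
set_option linter.style.haveILetI false
universe u

open CategoryTheory CategoryTheory.Limits MonoidalCategory CartesianMonoidalCategory MonObj AlgebraicGeometry

noncomputable section

namespace Groth.L25.TorusNhd

variable {S : Scheme.{u}}

/-- fibrewise finite morphisms have finite fibres -/
theorem finite_preimage {X Y : Over S} (f : X ⟶ Y) (h : ∀ s : S, IsFinite ((Over.pullback (Red.geomPt s)).map f).left)
    (y : Y.left) : (f.left ⁻¹' {y}).Finite := by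
  let b := Red.geomPt (Y.hom y)
  let F := ((Over.pullback b).map f).left
  haveI : IsFinite F := h (Y.hom y)
  have hF : F ≫ pullback.fst Y.hom b = pullback.fst X.hom b ≫ f.left := ActBC.pullback_map_left_fst b f
  have hY : F ≫ pullback.snd Y.hom b = pullback.snd X.hom b := Over.w ((Over.pullback b).map f)
  have sq : IsPullback F (pullback.fst X.hom b) (pullback.fst Y.hom b) f.left := by
    refine IsPullback.of_right (h₁₂ := pullback.snd Y.hom b) (v₁₃ := b) (h₂₂ := Y.hom) ?_ hF
      (IsPullback.of_hasPullback Y.hom b).flip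
    rw [hY, Over.w f]
    exact (IsPullback.of_hasPullback X.hom b).flip
  obtain ⟨y', hy', -⟩ := Scheme.Pullback.exists_preimage_pullback (f := Y.hom) (g := b) y
    (IsLocalRing.closedPoint _) (Groth.L08.Borel.geomPt_apply _ _).symm
  refine ((F.finite_preimage_singleton y').image (pullback.fst X.hom b)).subset fun x hx => ?_
  obtain ⟨w, h1, h2⟩ := Scheme.Pullback.exists_preimage_pullback (f := pullback.fst Y.hom b) (g := f.left) y' x
    (hy'.trans hx.symm)
  refine ⟨sq.isoPullback.inv w, ?_, ?_⟩
  · show F (sq.isoPullback.inv w) = y'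
    rw [← Scheme.Hom.comp_apply, sq.isoPullback_inv_fst]
    exact h1
  · rw [← Scheme.Hom.comp_apply, sq.isoPullback_inv_snd]
    exact h2

/-- finiteness of the geometric fibre gives local quasi-finiteness -/
theorem locallyQuasiFinite_of_geomFibres {X Y : Over S} (f : X ⟶ Y) [LocallyOfFiniteType f.left] [QuasiCompact f.left]
    (h : ∀ s : S, IsFinite ((Over.pullback (Red.geomPt s)).map f).left) : LocallyQuasiFinite f.left :=
  locallyQuasiFinite_iff_finite_preimage_singleton.2 (finite_preimage f h)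

/-- powers and base change -/
theorem map_pow_id {P : Scheme.{u}} (b : P ⟶ S) (G : Over S) [GrpObj G] (n : ℕ) :
    (Over.pullback b).map (𝟙 G ^ n) = 𝟙 (Red.bc b G) ^ n := by
  rw [show (Over.pullback b).map (𝟙 G ^ n) = ((Over.pullback b).map (𝟙 G)) ^ n from
    map_pow ((Over.pullback b).homMonoidHom) _ n, CategoryTheory.Functor.map_id]

/-- the geometric fibres are split tori -/
theorem exists_split_geomFibre {G : Over S} [GrpObj G]
    (hfib : ∀ s : S, Red.IsTorus (Red.bc (S.fromSpecResidueField s) G)) (s : S) :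
    ∃ r : ℕ, Red.IsSplitTorusWith (Fin r → ℤ) (Red.geomFibre s G) := by
  let σ : Spec (CommRingCat.of (AlgebraicClosure (S.residueField s))) ⟶ Spec (S.residueField s) :=
    Spec.map (CommRingCat.ofHom (algebraMap (S.residueField s) (AlgebraicClosure (S.residueField s))))
  obtain ⟨r, hr⟩ := Groth.L08.Borel.exists_split_rank (Groth.L25.Locus.isTorus_bc (hfib s) σ)
  exact ⟨r, Groth.L08.Borel.isSplit_iso (ActBC.bcCompIso σ (S.fromSpecResidueField s) G rfl) hr⟩

/-- powers are flat -/
theorem flat_pow {G : Over S} [GrpObj G] [Smooth G.hom]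
    (hfib : ∀ s : S, Red.IsTorus (Red.bc (S.fromSpecResidueField s) G)) {n : ℕ} (hn : n ≠ 0) :
    Flat (𝟙 G ^ n).left := by
  refine Groth.L08.Borel.flat_of_geomFibres _ fun s => ?_
  obtain ⟨r, ⟨e⟩⟩ := exists_split_geomFibre hfib s
  let θ : Red.geomFibre s G ⟶ Red.DS _ (Fin r → ℤ) := e.hom.hom.hom
  let θ' : Red.DS _ (Fin r → ℤ) ⟶ Red.geomFibre s G := e.inv.hom.hom
  haveI : IsMonHom θ' := e.inv.hom.isMonHom_hom
  have hθ : θ ≫ θ' = 𝟙 _ := congrArg (fun x => x.hom.hom) e.hom_inv_id
  have hθ' : θ' ≫ θ = 𝟙 _ := congrArg (fun x => x.hom.hom) e.inv_hom_id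
  haveI : IsIso θ := ⟨θ', hθ, hθ'⟩
  haveI : IsIso θ' := ⟨θ, hθ', hθ⟩
  have h1 : (Over.pullback (Red.geomPt s)).map (𝟙 G ^ n) =
      θ ≫ Red.DSmap _ (n • AddMonoidHom.id (Fin r → ℤ)) ≫ θ' := by
    rw [map_pow_id, ← Category.assoc, MaxTorus.DSmap_nsmul, MonObj.pow_comp, hθ]
  rw [h1, Over.comp_left, Over.comp_left]
  haveI : Flat (Red.DSmap (Spec (CommRingCat.of (AlgebraicClosure (S.residueField s))))
      (n • AddMonoidHom.id (Fin r → ℤ))).left :=
    (Groth.L25.SplitSub.DSmap_cover _ fun a b hab => smul_right_injective (Fin r → ℤ) hn hab).1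
  haveI : IsIso θ.left := inferInstanceAs (IsIso ((Over.forget _).map θ))
  haveI : IsIso θ'.left := inferInstanceAs (IsIso ((Over.forget _).map θ'))
  infer_instance

section Generic

variable [IsIntegral S] {G : Over S} [GrpObj G] [Smooth G.hom] [IsSeparated G.hom]
  (hfib : ∀ s : S, Red.IsTorus (Red.bc (S.fromSpecResidueField s) G)) {r : ℕ}
  (u : G ⟶ Red.DS S (Fin r → ℤ)) [IsMonHom u]
  [IsIso ((Over.pullback (S.fromSpecResidueField (genericPoint S))).map u)]

include hfib in
/-- no torsion of invertible order is killed -/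
theorem eq_one_of_torsion {K : Type u} [Field K] (b : Spec (CommRingCat.of K) ⟶ S) (a : Over.mk b ⟶ G) {ℓ : ℕ}
    (hℓ : ℓ ≠ 0) (hK : (ℓ : K) ≠ 0) (h1 : a ^ ℓ = 1) (h2 : a ≫ u = 1) : a = 1 := by
  let q := S.fromSpecResidueField (genericPoint S)
  let pw : G.left ⟶ G.left := (𝟙 G ^ ℓ).left
  let e : S ⟶ G.left := η[G].left
  have he : e ≫ G.hom = 𝟙 S := Over.w η[G]
  haveI : Flat pw := flat_pow hfib hℓ
  let N := pullback pw e
  let i : N ⟶ G.left := pullback.fst pw e
  let π : N ⟶ S := pullback.snd pw e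
  have hcond : i ≫ pw = π ≫ e := pullback.condition
  haveI : Flat π := MorphismProperty.pullback_snd _ _ ‹Flat pw›
  have hpw : pw ≫ G.hom = G.hom := Over.w (𝟙 G ^ ℓ)
  have hi : i ≫ G.hom = π := by
    have h3 := congrArg (· ≫ G.hom) hcond
    simp only [Category.assoc, he, hpw, Category.comp_id] at h3
    exact h3
  have ha : a.left ≫ pw = b ≫ e := by
    have h3 : a ≫ (𝟙 G ^ ℓ) = 1 := by rw [MonObj.comp_pow, Category.comp_id, h1]
    exact (congrArg CommaMorphism.left h3).trans MonoFibres.one_left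
  let n₀ : Spec (CommRingCat.of K) ⟶ N := pullback.lift a.left b ha
  let c₀ := IsLocalRing.closedPoint K
  obtain ⟨z, hz, hzη⟩ := Flat.generalizingMap π ((genericPoint_spec S).specializes (Set.mem_univ (π (n₀ c₀))))
  let fs := N.fromSpecResidueField z
  obtain ⟨c, hc⟩ := Extend.exists_residue_lift π z hzη
  let g : Over.mk (c ≫ q) ⟶ G := Over.homMk (fs ≫ i) (by
    show (fs ≫ i) ≫ G.hom = c ≫ q
    rw [Category.assoc, hi]
    exact hc.symm)
  have hgℓ : g ^ ℓ = 1 := by
    have h3 : g ≫ (𝟙 G ^ ℓ) = g ^ ℓ := by rw [MonObj.comp_pow, Category.comp_id]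
    rw [← h3]
    apply Over.OverMorphism.ext
    rw [MonoFibres.one_left]
    show (fs ≫ i) ≫ pw = (c ≫ q) ≫ e
    rw [Category.assoc, hcond, hc, Category.assoc]
  have hgu : g ≫ u = 1 := by
    refine DSPts.char_injective (MonoidHom.ext fun m => ?_)
    rw [DSPts.char_one]
    let U : Γ(G.left, ⊤) := DSPts.char u m
    let W : Γ(G.left, ⊤) := ∑ j ∈ Finset.range ℓ, U ^ j
    have hUa : a.left.appTop U = 1 := by
      have h3 := DFunLike.congr_fun (congrArg DSPts.char h2) m
      rw [DSPts.char_comp, DSPts.char_one] at h3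
      exact h3
    have hUg : (g.left.appTop U) ^ ℓ = 1 := by
      have h3 : (g ≫ u) ^ ℓ = 1 := by rw [← MonObj.pow_comp, hgℓ, MonObj.one_comp]
      have h4 := DFunLike.congr_fun (congrArg DSPts.char h3) m
      rw [← MaxTorus.DSmap_nsmul, SplitSub.char_DSmap, DSPts.char_one] at h4
      rw [← DSPts.char_comp, ← map_pow]
      exact h4
    let ε := (Scheme.ΓSpecIso (CommRingCat.of K)).hom.hom
    let εz := (Scheme.ΓSpecIso (N.residueField z)).hom.hom
    have hεinj : Function.Injective εz := (Scheme.ΓSpecIso (N.residueField z)).commRingCatIsoToRingEquiv.injective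
    have hWa : IsUnit (a.left.appTop W) := by
      have h3 : ε (a.left.appTop W) = (ℓ : K) := by simp [W, hUa]
      have h4 : IsUnit (ε (a.left.appTop W)) := by rw [h3]; exact isUnit_iff_ne_zero.2 hK
      exact (isUnit_map_iff (Scheme.ΓSpecIso (CommRingCat.of K)).commRingCatIsoToRingEquiv _).1 h4
    have hmem : a.left c₀ ∈ G.left.basicOpen W := by
      show c₀ ∈ a.left ⁻¹ᵁ G.left.basicOpen W
      rw [Scheme.preimage_basicOpen_top, Scheme.basicOpen_of_isUnit _ hWa]
      trivial
    have hmem' : i z ∈ G.left.basicOpen W := by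
      refine (hz.map i.continuous).mem_open (G.left.basicOpen W).2 ?_
      rw [← Scheme.Hom.comp_apply, pullback.lift_fst]
      exact hmem
    have hWg : εz (g.left.appTop W) ≠ 0 := by
      intro h0
      have h3 : g.left.appTop W = 0 := hεinj (h0.trans (map_zero εz).symm)
      let c₁ := IsLocalRing.closedPoint (N.residueField z)
      have h4 : c₁ ∈ g.left ⁻¹ᵁ G.left.basicOpen W := by
        show (fs ≫ i) c₁ ∈ G.left.basicOpen W
        rw [Scheme.Hom.comp_apply, Scheme.fromSpecResidueField_apply]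
        exact hmem'
      rw [Scheme.preimage_basicOpen_top, h3, Scheme.basicOpen_zero] at h4
      exact h4
    have hgeom : εz (g.left.appTop W) * (εz (g.left.appTop U) - 1) = 0 := by
      simp only [W, map_sum, map_pow]
      rw [geom_sum_mul, ← map_pow, hUg, map_one, sub_self]
    rw [DSPts.char_comp]
    exact hεinj (((mul_eq_zero.1 hgeom).resolve_left hWg |> sub_eq_zero.1).trans (map_one εz).symm)
  let h : Over.mk c ⟶ Red.bc q G := NilAction.ofBase q (g : Over.mk ((Over.mk c).hom ≫ q) ⟶ G)
  have hh : h = 1 := by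
    rw [← cancel_mono ((Over.pullback q).map u), MonObj.one_comp]
    rw [← NilAction.ofBase_toBase q (h ≫ (Over.pullback q).map u),
      ← NilAction.ofBase_toBase q (1 : Over.mk c ⟶ Red.bc q (Red.DS S (Fin r → ℤ)))]
    rw [NilAction.toBase_one]
    congr 1
    refine Eq.trans ?_ hgu
    apply Over.OverMorphism.ext
    simp only [h, NilAction.toBase, NilAction.ofBase, Over.comp_left, Over.homMk_left, Category.assoc]
    erw [ActBC.pullback_map_left_fst q u, pullback.lift_fst_assoc]
  have hg : g = 1 := by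
    exact ((NilAction.toBase_ofBase q (Y := Over.mk c) g).symm.trans (congrArg (NilAction.toBase q) hh)).trans
      (NilAction.toBase_one q (Y := Over.mk c))
  haveI : IsClosedImmersion e := by
    haveI : IsClosedImmersion (e ≫ G.hom) := by rw [he]; infer_instance
    exact IsClosedImmersion.of_comp e G.hom
  have hiz : i z ∈ Set.range e := by
    have h3 := congrArg (fun φ : _ ⟶ G.left => φ (IsLocalRing.closedPoint (N.residueField z)))
      ((congrArg CommaMorphism.left hg).trans MonoFibres.one_left)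
    simp only [g, Over.homMk_left, Over.mk_hom, Scheme.Hom.comp_apply] at h3
    rw [Scheme.fromSpecResidueField_apply] at h3
    exact ⟨_, h3.symm⟩
  have hac : a.left c₀ ∈ Set.range e := by
    refine (hz.map i.continuous).mem_closed e.isClosedEmbedding.isClosed_range hiz |> fun h => ?_
    rwa [← Scheme.Hom.comp_apply, pullback.lift_fst] at h
  haveI : AlgebraicGeometry.IsReduced (Over.mk b).left := inferInstanceAs (AlgebraicGeometry.IsReduced (Spec (CommRingCat.of K)))
  obtain ⟨l, hl⟩ := Groth.L24.GrpdField.exists_lift_of_range_subset e a.left (by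
    rintro _ ⟨x, rfl⟩
    rwa [Subsingleton.elim (α := PrimeSpectrum K) x c₀])
  apply Over.OverMorphism.ext
  rw [MonoFibres.one_left, ← hl]
  congr 1
  rw [show (Over.mk b).hom = a.left ≫ G.hom from (Over.w a).symm, ← hl, Category.assoc, he, Category.comp_id]

include hfib in
/-- fibres at split points are finite -/
theorem isFinite_fibre {K : Type u} [Field K] [IsAlgClosed K] (b : Spec (CommRingCat.of K) ⟶ S) {r' : ℕ}
    (E : Grp.mk (Red.bc b G) ≅ Grp.mk (Red.DS (Spec (CommRingCat.of K)) (Fin r' → ℤ))) :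
    IsFinite ((Over.pullback b).map u).left := by
  let θ : Red.bc b G ⟶ Red.DS _ (Fin r' → ℤ) := E.hom.hom.hom
  let θ' : Red.DS _ (Fin r' → ℤ) ⟶ Red.bc b G := E.inv.hom.hom
  haveI : IsMonHom θ := E.hom.hom.isMonHom_hom
  haveI : IsMonHom θ' := E.inv.hom.isMonHom_hom
  have hθ : θ ≫ θ' = 𝟙 _ := congrArg (fun x => x.hom.hom) E.hom_inv_id
  have hθ' : θ' ≫ θ = 𝟙 _ := congrArg (fun x => x.hom.hom) E.inv_hom_id
  haveI : IsMonHom ((Over.pullback b).map u) := inferInstance
  haveI : IsMonHom (SplitSub.bcDS (N := Fin r → ℤ) b).hom := SplitSub.isMonHom_bcDS b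
  let F := θ' ≫ (Over.pullback b).map u ≫ (SplitSub.bcDS b).hom
  haveI : IsMonHom F := inferInstanceAs (IsMonHom (_ ≫ _ ≫ _))
  obtain ⟨ℓ, hℓ, hK⟩ : ∃ ℓ : ℕ, ℓ.Prime ∧ (ℓ : K) ≠ 0 := by
    by_cases h2 : (2 : K) = 0
    · refine ⟨3, Nat.prime_three, fun h3 => one_ne_zero (α := K) ?_⟩
      linear_combination h3 - h2
    · exact ⟨2, Nat.prime_two, h2⟩
  haveI : IsFinite F.left := isFinite_of_torsion F hℓ hK fun x hx1 hx2 => by
    let y := x ≫ θ'
    let tb : (_ ⟶ Red.bc b G) →* (Over.mk ((𝟙_ (Over (Spec (CommRingCat.of K)))).hom ≫ b) ⟶ G) :=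
      MonoidHom.mk' (NilAction.toBase b) (NilAction.toBase_mul b)
    let a := tb y
    have ha1 : a ^ ℓ = 1 := by
      rw [← map_pow, ← MonObj.pow_comp, hx1, MonObj.one_comp, map_one]
    have h3 : y ≫ (Over.pullback b).map u = 1 := by
      rw [← cancel_mono (SplitSub.bcDS (N := Fin r → ℤ) b).hom, Category.assoc, MonObj.one_comp]
      exact (Category.assoc _ _ _).trans hx2
    have ha2 : a ≫ u = 1 := by
      have h5 : NilAction.toBase b (y ≫ (Over.pullback b).map u) = 1 :=
        (congrArg (fun m : (_ ⟶ Red.bc b (Red.DS S (Fin r → ℤ))) => NilAction.toBase b m) h3).trans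
          (NilAction.toBase_one (G := Red.DS S (Fin r → ℤ)) b)
      rw [← h5]
      apply Over.OverMorphism.ext
      simp only [a, tb, MonoidHom.mk'_apply, NilAction.toBase, Over.comp_left, Over.homMk_left, Category.assoc]
      erw [ActBC.pullback_map_left_fst b u]
    have ha : a = 1 := eq_one_of_torsion hfib u _ a hℓ.ne_zero hK ha1 ha2
    have hy : y = 1 := by
      rw [← NilAction.ofBase_toBase b y, show NilAction.toBase b y = 1 from ha, ← NilAction.toBase_one b,
        NilAction.ofBase_toBase]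
    rw [← Category.comp_id x, ← hθ', ← Category.assoc, show x ≫ θ' = y from rfl, hy, MonObj.one_comp]
  haveI : IsIso θ := ⟨θ', hθ, hθ'⟩
  haveI : IsIso θ.left := inferInstanceAs (IsIso ((Over.forget _).map θ))
  haveI : IsIso (SplitSub.bcDS (N := Fin r → ℤ) b).inv.left :=
    inferInstanceAs (IsIso ((Over.forget _).map (SplitSub.bcDS (N := Fin r → ℤ) b).inv))
  have h4 : (Over.pullback b).map u = θ ≫ F ≫ (SplitSub.bcDS b).inv := by
    simp only [F, Category.assoc, Iso.hom_inv_id, Category.comp_id]
    exact (reassoc_of% hθ) _ |>.symm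
  rw [h4, Over.comp_left, Over.comp_left]
  infer_instance

include hfib in
/-- the geometric fibres are finite -/
theorem isFinite_geomFibre (s : S) : IsFinite ((Over.pullback (Red.geomPt s)).map u).left := by
  obtain ⟨r', ⟨E⟩⟩ := exists_split_geomFibre hfib s
  exact isFinite_fibre hfib u (Red.geomPt s) E

variable [IsLocallyNoetherian S] [QuasiCompact G.hom]

include hfib in
/-- **isomorphism** -/
theorem isIso_of_generic (hS : Pi1.IsNormalScheme S) : IsIso u := by
  let T := Red.DS S (Fin r → ℤ)
  let q := S.fromSpecResidueField (genericPoint S)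
  have hconn : ∀ s : S, ConnectedSpace ↥(pullback G.hom (S.fromSpecResidueField s)) := fun s =>
    Groth.L13.TorusConn.connectedSpace (k := S.residueField s) (Red.bc (S.fromSpecResidueField s) G) (hfib s)
  have hconnT : ∀ s : S, ConnectedSpace ↥(pullback T.hom (S.fromSpecResidueField s)) := fun s =>
    Groth.L13.TorusConn.connectedSpace _ (Groth.L25.Locus.isTorus_bc (Groth.L08.Borel.isTorus_ds S r) _)
  haveI : Smooth T.hom := Groth.L25.SplitSub.smooth_DS S r
  haveI : IsAffineHom T.hom :=
    Central.isAffineHom_of_multTypeFT (Locus.isMultTypeFT_of_isTorus (Groth.L08.Borel.isTorus_ds S r))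
  haveI := Extend.isIntegral_total G hconn hS
  haveI := Extend.isIntegral_total T hconnT hS
  haveI : Flat q := Extend.flat_fromSpecResidueField_genericPoint S
  let F := ((Over.pullback q).map u).left
  haveI : IsIso F := inferInstanceAs (IsIso ((Over.forget _).map ((Over.pullback q).map u)))
  let jG := Extend.ι₀ G
  let jT := Extend.ι₀ T
  have hsq : F ≫ jT = jG ≫ u.left := ActBC.pullback_map_left_fst q u
  have hG : Function.Surjective (fun z => (⟨jG z, by
      rw [Set.mem_preimage, Set.mem_singleton_iff, ← Scheme.Hom.comp_apply, pullback.condition,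
        Scheme.Hom.comp_apply, Scheme.fromSpecResidueField_apply]⟩ : G.hom ⁻¹' {genericPoint S})) := by
    rintro ⟨x, hx⟩
    have : x ∈ Set.range jG := by
      rw [Scheme.Pullback.range_fst, Set.mem_preimage, Scheme.range_fromSpecResidueField]
      exact hx
    obtain ⟨z, rfl⟩ := this
    exact ⟨z, rfl⟩
  obtain ⟨z₀, hz₀'⟩ := hG ⟨_, Extend.hom_genericPoint G hconn⟩
  have hz₀ : jG z₀ = genericPoint G.left := congrArg Subtype.val hz₀'
  obtain ⟨w₀, hw₀⟩ : genericPoint T.left ∈ Set.range jT := by
    rw [Scheme.Pullback.range_fst, Set.mem_preimage, Scheme.range_fromSpecResidueField]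
    exact Extend.hom_genericPoint T hconnT
  have hgen : u.left (genericPoint G.left) = genericPoint T.left := by
    refine ((((genericPoint_spec G.left).specializes (Set.mem_univ (jG (inv F w₀)))).map u.left.continuous).antisymm
      ?_).eq.trans ?_
    · rw [← Scheme.Hom.comp_apply jG, ← hsq, Scheme.Hom.comp_apply, ← Scheme.Hom.comp_apply (inv F),
        IsIso.inv_hom_id]
      show jT w₀ ⤳ _
      rw [hw₀]
      exact (genericPoint_spec T.left).specializes (Set.mem_univ _)
    · rw [← Scheme.Hom.comp_apply jG, ← hsq, Scheme.Hom.comp_apply, ← Scheme.Hom.comp_apply (inv F),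
        IsIso.inv_hom_id]
      exact hw₀
  haveI : Flat jG := MorphismProperty.pullback_fst _ _ ‹Flat q›
  haveI : Flat jT := MorphismProperty.pullback_fst _ _ ‹Flat q›
  haveI : IsPreimmersion jG := MorphismProperty.pullback_fst _ _ inferInstance
  haveI : IsPreimmersion jT := MorphismProperty.pullback_fst _ _ inferInstance
  have hbir : IsIso (u.left.stalkMap (genericPoint G.left)) := by
    rw [← hz₀]
    haveI : IsIso (jG.stalkMap z₀) := (ConcreteCategory.isIso_iff_bijective _).2
      ⟨Extend.stalkMap_injective_of_flat _ _, jG.stalkMap_surjective _⟩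
    haveI : IsIso (jT.stalkMap (F z₀)) := (ConcreteCategory.isIso_iff_bijective _).2
      ⟨Extend.stalkMap_injective_of_flat _ _, jT.stalkMap_surjective _⟩
    haveI : IsIso ((F ≫ jT).stalkMap z₀) := by
      rw [Scheme.Hom.stalkMap_comp]
      exact @IsIso.comp_isIso _ _ _ _ _ _ _ ‹IsIso (jT.stalkMap (F z₀))› inferInstance
    have key : ∀ (φ : (Red.bc q G).left ⟶ T.left) (_ : φ = F ≫ jT), IsIso (φ.stalkMap z₀) := by
      rintro φ rfl
      assumption
    have h3 := key (jG ≫ u.left) hsq.symm
    rw [Scheme.Hom.stalkMap_comp] at h3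
    exact @IsIso.of_isIso_comp_right _ _ _ _ _ (u.left.stalkMap (jG z₀)) (jG.stalkMap z₀) inferInstance h3
  haveI : LocallyOfFiniteType (u.left ≫ T.hom) := by rw [Over.w u]; infer_instance
  haveI : LocallyOfFiniteType u.left := locallyOfFiniteType_of_comp u.left T.hom
  haveI : QuasiCompact (u.left ≫ T.hom) := by rw [Over.w u]; infer_instance
  haveI : QuasiCompact u.left := QuasiCompact.of_comp u.left T.hom
  haveI : IsSeparated (u.left ≫ T.hom) := by rw [Over.w u]; infer_instance
  haveI : IsSeparated u.left := IsSeparated.of_comp u.left T.hom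
  haveI : LocallyQuasiFinite u.left := locallyQuasiFinite_of_geomFibres u (isFinite_geomFibre hfib u)
  have hT := Extend.isNormalScheme_of_smooth T.hom hS
  choose D hxD hD using fun x => Groth.L19.exists_isIso_morphismRestrict_of_birational u.left hgen hbir x
    (u.left.quasiFiniteAt x) (hT (u.left x)).2
  let U : T.left.Opens := ⨆ x, D x
  have hU : u.left ⁻¹ᵁ U = ⊤ := top_le_iff.1 fun x _ => TopologicalSpace.Opens.mem_iSup.2 ⟨x, hxD x⟩
  haveI : IsIso (u.left ∣_ U) := by
    refine IsZariskiLocalAtTarget.of_iSup_eq_top (P := MorphismProperty.isomorphisms Scheme.{u})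
      (fun x => U.ι ⁻¹ᵁ D x) (top_le_iff.1 fun y _ => ?_) fun x => ?_
    · obtain ⟨x, hx⟩ := TopologicalSpace.Opens.mem_iSup.1 y.2
      exact TopologicalSpace.Opens.mem_iSup.2 ⟨x, hx⟩
    · rw [(MorphismProperty.isomorphisms Scheme.{u}).arrow_mk_iso_iff (morphismRestrictRestrict u.left U _),
        Scheme.Hom.image_preimage_eq_opensRange_inf, Scheme.Opens.opensRange_ι, inf_eq_right.2 (le_iSup D x)]
      exact hD x
  haveI : IsOpenImmersion u.left := by
    haveI : IsIso (u.left ⁻¹ᵁ U).ι := by rw [hU]; exact inferInstanceAs (IsIso G.left.topIso.hom)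
    have h3 : u.left = inv (u.left ⁻¹ᵁ U).ι ≫ (u.left ∣_ U) ≫ U.ι := by
      rw [morphismRestrict_ι, IsIso.inv_hom_id_assoc]
    rw [h3]
    infer_instance
  haveI : Mono u := Over.mono_of_mono_left u
  exact Groth.L08.Borel.isIso_of_open_subgroup (Groth.L02.SchDom.irrFib_of_group T hconnT) u

end Generic

end Groth.L25.TorusNhd
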