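import Groth.Agent.L25.TorusNhd.Torus
import Groth.Agent.L25.TorusNhd.FieldUnip
import Groth.Agent.L19.SpecSub.Derived
import Groth.Agent.L25.MultSub.Main
import Groth.Agent.L18.ZeroDim

/-!
# Torus fibres generise in smooth separated groups with affine connected fibres
-/

set_option autoImplicit false
set_option backward.isDefEq.respectTransparency.types false
set_option linter.style.haveILetI false
universe u

open CategoryTheory CategoryTheory.Limits MonoidalCategory CartesianMonoidalCategory MonObj AlgebraicGeometry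

noncomputable section

namespace Groth.L25.TorusNhd

open Groth.L19.SpecSub (genPtOf resClosed)

/-- a smooth connected group of dimension zero is trivial -/
theorem isTrivialGrp_of_dim {k : Type u} [Field k] {N : Over (Spec (CommRingCat.of k))} [GrpObj N] [Smooth N.hom]
    [IsSeparated N.hom] [ConnectedSpace N.left] (h : topologicalKrullDim ↥N.left ≤ 0) : Red.IsTrivialGrp N := by
  haveI : IsReduced N.left := Groth.Agent.AV.isReduced_of_smooth_field N.hom
  haveI : IrreducibleSpace N.left := Groth.L25.ConnIrred.irreducibleSpace N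
  haveI : Subsingleton N.left := ⟨fun x y => by
    have hx := Groth.L18.ZeroDim.eq_of_specializes h ((genericPoint_spec N.left).specializes (Set.mem_univ x))
    have hy := Groth.L18.ZeroDim.eq_of_specializes h ((genericPoint_spec N.left).specializes (Set.mem_univ y))
    exact hx.symm.trans hy⟩
  haveI : IsClosedImmersion (η[N] : 𝟙_ _ ⟶ N).left :=
    isClosedImmersion_of_comp_eq_id N.hom _ (Over.w _)
  haveI : Surjective (η[N] : 𝟙_ _ ⟶ N).left :=
    ⟨fun x => ⟨IsLocalRing.closedPoint k, Subsingleton.elim _ _⟩⟩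
  haveI : IsIso (η[N] : 𝟙_ _ ⟶ N).left := isIso_of_isClosedImmersion_of_surjective _
  have e : (η[N] : 𝟙_ _ ⟶ N).left ≫ N.hom = 𝟙 _ := Over.w _
  show IsIso N.hom
  exact ⟨(η[N] : 𝟙_ _ ⟶ N).left, by rw [← cancel_epi (η[N] : 𝟙_ _ ⟶ N).left, reassoc_of% e, Category.comp_id], e⟩

/-- groups of multiplicative type split over algebraically closed fields -/
theorem exists_split_multType {k : Type u} [Field k] [IsAlgClosed k] {H : Over (Spec (CommRingCat.of k))} [GrpObj H]
    (hH : SGA3x.IsMultTypeFT H) :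
    ∃ (M : Type) (_ : AddCommGroup M), AddGroup.FG M ∧ Nonempty (Grp.mk H ≅ Grp.mk (Red.DS (Spec (CommRingCat.of k)) M)) := by
  obtain ⟨T₀, f₀, hf₀, ⟨t, ht⟩, M, _, hfg, ⟨e⟩⟩ :=
    Groth.L25.Extend.exists_etale_split hH (IsLocalRing.closedPoint k)
  haveI : Etale f₀ := hf₀
  obtain ⟨σ, hσ⟩ := Groth.L08.Borel.exists_pt_lift_etale f₀ (𝟙 _) t (by simpa using ht)
  exact ⟨M, _, hfg, ⟨(Functor.mapGrpNatIso (Over.pullbackId (X := Spec (CommRingCat.of k))).symm).app (Grp.mk H) ≪≫ TrivLocus.restrictIso f₀ σ e hσ⟩⟩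

/-- diagonalisable groups of finite groups are finite -/
theorem dim_DS_finite {k : Type u} [Field k] {M : Type} [AddCommGroup M] [Finite M] :
    topologicalKrullDim ↥(Red.DS (Spec (CommRingCat.of k)) M).left ≤ 0 := by
  let Z := Red.diag (ULift.{u} ℤ) M
  haveI : IsFinite Z.hom := (IsFinite.SpecMap_iff _).2 (RingHom.finite_algebraMap.2 inferInstance)
  haveI : IsFinite (Red.DS (Spec (CommRingCat.of k)) M).hom := MorphismProperty.pullback_snd _ _ ‹IsFinite Z.hom›
  haveI : IsArtinianScheme (Red.DS (Spec (CommRingCat.of k)) M).left := by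
    haveI : IsLocallyArtinian (Spec (CommRingCat.of k)) := Scheme.isLocallyArtinianScheme_Spec.2 inferInstance
    exact { toIsLocallyArtinian := .of_locallyQuasiFinite (Red.DS (Spec (CommRingCat.of k)) M).hom,
            toCompactSpace := QuasiCompact.compactSpace_of_compactSpace (Red.DS (Spec (CommRingCat.of k)) M).hom }
  rw [topologicalKrullDim, Order.krullDim_nonpos_iff_forall_isMax]
  intro a b hab x hx
  obtain ⟨y, hy⟩ := a.2.1
  have hb : b.1.Subsingleton := by
    have h1 : _root_.IsPreconnected b.1 := b.2.isPreirreducible.isPreconnected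
    exact h1.subsingleton
  rw [hb hx (hab hy)]
  exact hy

/-- a prime invertible in two fields and larger than a bound -/
theorem exists_prime (K k : Type u) [Field K] [Field k] (N : ℕ) :
    ∃ ℓ : ℕ, ℓ.Prime ∧ N < ℓ ∧ (ℓ : K) ≠ 0 ∧ (ℓ : k) ≠ 0 := by
  obtain ⟨ℓ, hle, hℓ⟩ := Nat.exists_infinite_primes (N + ringChar K + ringChar k + 1)
  refine ⟨ℓ, hℓ, by omega, ?_, ?_⟩ <;> intro h0 <;> rw [ringChar.spec] at h0 <;>
    rcases (Nat.dvd_prime hℓ).1 h0 with h | h
  · exact CharP.ringChar_ne_one h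
  · omega
  · exact CharP.ringChar_ne_one h
  · omega

/-- reduced points in the identity section are trivial -/
theorem eq_one_of_range {S : Scheme.{u}} {X : Over S} [GrpObj X] [IsSeparated X.hom] {T : Over S} [IsReduced T.left]
    (a : T ⟶ X) (h : Set.range a.left ⊆ Set.range η[X].left) : a = 1 := by
  haveI : IsClosedImmersion η[X].left := by
    haveI : IsClosedImmersion (η[X].left ≫ X.hom) := by rw [Over.w η[X]]; exact inferInstanceAs (IsClosedImmersion (𝟙 S))
    exact IsClosedImmersion.of_comp _ X.hom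
  obtain ⟨l, hl⟩ := Groth.L24.GrpdField.exists_lift_of_range_subset η[X].left a.left h
  apply Over.OverMorphism.ext
  rw [MonoFibres.one_left, ← hl]
  congr 1
  have h1 : η[X].left ≫ X.hom = 𝟙 S := Over.w η[X]
  rw [← Over.w a, ← hl, Category.assoc, h1]
  exact (Category.comp_id l).symm

section Val

variable {V : Type u} [CommRing V] [IsDomain V] [ValuationRing V] {K : Type u} [Field K] [Algebra V K]
  [IsFractionRing V K] [IsAlgClosed K] [IsAlgClosed (IsLocalRing.ResidueField V)]

/-- **no unipotent subgroup of the generic fibre when the special fibre is a torus** -/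
theorem isTrivialGrp_of_special_torus (G : Over (Spec (CommRingCat.of V))) [GrpObj G] [Smooth G.hom]
    [IsSeparated G.hom] (hs : Red.IsTorus (Red.bc (resClosed V) G))
    (U : Over (Spec (CommRingCat.of K))) [GrpObj U] (i : U ⟶ Red.bc (genPtOf V K) G) [IsMonHom i]
    [IsClosedImmersion i.left] [IsAffine U.left] [Smooth U.hom] [ConnectedSpace U.left]
    (hns : Red.HasNoSubtorus K U) : Red.IsTrivialGrp U := by
  obtain ⟨H, gH, j, φ, hj, hjc, hflat, sq, hφ, -⟩ := Groth.L19.SpecSub.exists_closure G U i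
  haveI : LocallyOfFiniteType H.hom := by rw [← Over.w j]; infer_instance
  haveI : IsSeparated H.hom := by rw [← Over.w j]; infer_instance
  haveI := Groth.L19.SpecSub.lfp_of_flat H
  let r := resClosed V
  let Hs := Red.bc r H
  let k := IsLocalRing.ResidueField V
  haveI : Flat Hs.hom := MorphismProperty.pullback_snd _ _ hflat
  haveI : LocallyOfFinitePresentation Hs.hom :=
    MorphismProperty.pullback_snd _ _ ‹LocallyOfFinitePresentation H.hom›
  let js : Hs ⟶ Red.bc r G := (Over.pullback r).map j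
  haveI : IsMonHom js := inferInstanceAs (IsMonHom ((Over.pullback r).map j))
  have hjs : IsClosedImmersion js.left :=
    MorphismProperty.of_isPullback (Groth.L08.HomLocus.isPullback_bc r j) ‹IsClosedImmersion j.left›
  have hmult : SGA3x.IsMultTypeFT Hs :=
    Groth.L25.MultSub.isMultTypeFT_of_closed Hs _ (Groth.L25.Locus.isMultTypeFT_of_isTorus hs) js hjs
      inferInstance inferInstance
  obtain ⟨M, _, hfg, ⟨E⟩⟩ := exists_split_multType hmult
  haveI : AddGroup.FG M := hfg
  haveI : IsSeparated U.hom := inferInstance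
  by_contra hU
  have hM : ¬ Finite M := by
    intro hMfin
    refine hU (isTrivialGrp_of_dim ?_)
    have h1 : topologicalKrullDim ↥U.left = topologicalKrullDim ↥(pullback H.hom (genPtOf V K)) :=
      IsHomeomorph.topologicalKrullDim_eq _ (Scheme.homeoOfIso sq.isoPullback).isHomeomorph
    rw [h1, Groth.L19.SpecSub.dim_generic_eq_special H]
    have e : Hs.left ≅ (Red.DS (Spec (CommRingCat.of k)) M).left :=
      (Over.forget _).mapIso ((Grp.forget _).mapIso E)
    exact (IsHomeomorph.topologicalKrullDim_eq _ (Scheme.homeoOfIso e).isHomeomorph).trans_le dim_DS_finite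
  haveI : Module.Finite ℤ M := Module.Finite.iff_addGroup_fg.2 hfg
  let τ := Submodule.torsion ℤ M
  haveI : Module.Finite ℤ τ := inferInstance
  haveI : Finite τ := Module.finite_of_fg_torsion τ (Submodule.torsion_isTorsion)
  obtain ⟨ℓ, hℓ, hNℓ, hK, hk⟩ := exists_prime K k (Nat.card τ)
  haveI := Fact.mk hℓ
  -- multiplication by ℓ is injective
  have hinj : Function.Injective (ℓ • AddMonoidHom.id M) := by
    rw [injective_iff_map_eq_zero]
    intro m hm
    have hm' : (ℓ : ℤ) • m = 0 := by rw [natCast_zsmul]; exact hm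
    have hmem : m ∈ τ := ⟨⟨(ℓ : ℤ), mem_nonZeroDivisors_iff_ne_zero.2 (by exact_mod_cast hℓ.ne_zero)⟩, hm'⟩
    have h1 : addOrderOf (⟨m, hmem⟩ : τ) ∣ ℓ := addOrderOf_dvd_iff_nsmul_eq_zero.2 (Subtype.ext hm)
    rcases (Nat.dvd_prime hℓ).1 h1 with h2 | h2
    · exact congrArg Subtype.val (AddMonoid.addOrderOf_eq_one_iff.1 h2)
    · exact absurd (h2 ▸ addOrderOf_le_card) (by omega)
  -- a nontrivial point of order ℓ
  obtain ⟨lam, hlam⟩ : ∃ lam : M →+ ZMod ℓ, lam ≠ 0 := by
    haveI : Module.Free ℤ (M ⧸ τ) := Module.free_of_finite_type_torsion_free'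
    let bas := Module.Free.chooseBasis ℤ (M ⧸ τ)
    obtain ⟨i₀⟩ : Nonempty (Module.Free.ChooseBasisIndex ℤ (M ⧸ τ)) := by
      by_contra hne
      haveI := not_nonempty_iff.1 hne
      haveI : Subsingleton (M ⧸ τ) := bas.repr.toEquiv.subsingleton
      refine hM (Finite.of_injective (fun m : M => (⟨m, (Submodule.Quotient.mk_eq_zero τ).1 (Subsingleton.elim _ _)⟩ : τ))
        fun a b hab => congrArg Subtype.val hab)
    obtain ⟨m₀, hm₀⟩ := Submodule.Quotient.mk_surjective τ (bas i₀)
    refine ⟨(Int.castAddHom (ZMod ℓ)).comp ((bas.coord i₀).comp τ.mkQ).toAddMonoidHom, fun h0 => ?_⟩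
    have h1 := DFunLike.congr_fun h0 m₀
    simp [hm₀] at h1
  haveI : NeZero (ℓ : k) := ⟨hk⟩
  obtain ⟨ζ, hζ⟩ := HasEnoughRootsOfUnity.exists_primitiveRoot k ℓ
  let ek := (Scheme.ΓSpecIso (CommRingCat.of k)).inv.hom
  let χ : Multiplicative M →* Γ((𝟙_ (Over (Spec (CommRingCat.of k)))).left, ⊤) :=
    { toFun := fun m => ek (ζ ^ (lam m.toAdd).val)
      map_one' := by simp
      map_mul' := fun m m' => by
        rw [← map_mul, ← pow_add, toAdd_mul, map_add, ZMod.val_add]
        exact congrArg ek (pow_eq_pow_mod _ hζ.pow_eq_one).symm }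
  let θ' : Red.DS (Spec (CommRingCat.of k)) M ⟶ Hs := E.inv.hom.hom
  let θ : Hs ⟶ Red.DS (Spec (CommRingCat.of k)) M := E.hom.hom.hom
  haveI : IsMonHom θ' := E.inv.hom.isMonHom_hom
  haveI : IsMonHom θ := E.hom.hom.isMonHom_hom
  have hθ : θ ≫ θ' = 𝟙 _ := congrArg (fun x => x.hom.hom) E.hom_inv_id
  have hθ' : θ' ≫ θ = 𝟙 _ := congrArg (fun x => x.hom.hom) E.inv_hom_id
  haveI : IsIso θ := ⟨θ', hθ, hθ'⟩
  haveI : IsIso θ' := ⟨θ, hθ', hθ⟩
  haveI : IsIso θ.left := inferInstanceAs (IsIso ((Over.forget _).map θ))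
  haveI : IsIso θ'.left := inferInstanceAs (IsIso ((Over.forget _).map θ'))
  let y : 𝟙_ (Over (Spec (CommRingCat.of k))) ⟶ Hs := DSPts.pt χ ≫ θ'
  have hy : y ^ ℓ = 1 := by
    have h1 : (DSPts.pt χ : _ ⟶ Red.DS _ M) ^ ℓ = 1 := by
      refine DSPts.char_injective (MonoidHom.ext fun m => ?_)
      rw [← MaxTorus.DSmap_nsmul, SplitSub.char_DSmap, DSPts.char_pt, DSPts.char_one]
      show ek (ζ ^ (lam (ℓ • m.toAdd)).val) = 1
      rw [map_nsmul, ZModModule.char_nsmul_eq_zero, ZMod.val_zero, pow_zero, map_one]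
    rw [← MonObj.pow_comp, h1, MonObj.one_comp]
  have hy1 : y ≠ 1 := by
    intro h0
    refine hlam (AddMonoidHom.ext fun m => ?_)
    have h2 : DSPts.pt χ = 1 := by
      rw [← Category.comp_id (DSPts.pt χ), ← hθ', ← Category.assoc]
      exact (congrArg (· ≫ θ) h0).trans (MonObj.one_comp θ)
    have h3 := DFunLike.congr_fun (congrArg DSPts.char h2) (Multiplicative.ofAdd m)
    rw [DSPts.char_pt, DSPts.char_one] at h3
    have h4 : ζ ^ (lam m).val = 1 :=
      (Scheme.ΓSpecIso (CommRingCat.of k)).symm.commRingCatIsoToRingEquiv.injective (h3.trans (map_one ek).symm)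
    exact (ZMod.val_eq_zero _).1 (Nat.eq_zero_of_dvd_of_lt ((hζ.pow_eq_one_iff_dvd _).1 h4) (ZMod.val_lt _))
  -- flatness of the power map along the special fibre
  let s₀ := r (IsLocalRing.closedPoint k)
  let pw := (𝟙 H ^ ℓ).left
  have hfib : Flat ((Over.pullback ((Spec (CommRingCat.of V)).fromSpecResidueField s₀)).map (𝟙 H ^ ℓ)).left := by
    refine Groth.L08.Borel.flat_fibre_of_point _ r ?_
    have h1 : (Over.pullback r).map (𝟙 H ^ ℓ) = θ ≫ Red.DSmap _ (ℓ • AddMonoidHom.id M) ≫ θ' := by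
      rw [map_pow_id, ← Category.assoc, MaxTorus.DSmap_nsmul, MonObj.pow_comp, hθ]
    rw [h1, Over.comp_left, Over.comp_left]
    haveI : Flat (Red.DSmap (Spec (CommRingCat.of k)) (ℓ • AddMonoidHom.id M)).left :=
      (Groth.L25.SplitSub.DSmap_cover _ hinj).1
    infer_instance
  have hst : ∀ x : H.left, H.hom x = s₀ → (pw.stalkMap x).hom.Flat := by
    intro x hx
    have hw : pw ≫ H.hom = H.hom := Over.w (𝟙 H ^ ℓ)
    haveI : LocallyOfFinitePresentation (pw ≫ H.hom) := by rw [hw]; infer_instance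
    haveI : Flat (pw ≫ H.hom) := by rw [hw]; exact hflat
    have hx' : H.hom (pw x) = s₀ := by rw [← Scheme.Hom.comp_apply, hw, hx]
    refine Groth.L20.flat_stalkMap_of_fiberMap pw H.hom x (Flat.stalkMap _ x) ?_
    haveI : Flat (MoreMor.fiberMap pw H.hom (H.hom (pw x))) := by
      rw [hx']
      rw [← (Groth.L20.Thick.isPullback_fiberMap pw H.hom _).isoPullback_hom_snd,
        MorphismProperty.cancel_left_of_respectsIso @Flat]
      have h1 := hfib
      rw [← (Groth.L08.IsogenyFibres.isPullback_fibre H H (𝟙 H ^ ℓ) s₀).isoPullback_hom_snd] at h1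
      exact (MorphismProperty.cancel_left_of_respectsIso @Flat _ _).1 h1
    exact Flat.stalkMap _ _
  haveI : LocallyOfFinitePresentation pw := by
    haveI : LocallyOfFinitePresentation (pw ≫ H.hom) := by rw [Over.w (𝟙 H ^ ℓ)]; infer_instance
    exact Groth.L20.locallyOfFinitePresentation_of_comp pw H.hom
  let O : H.left.Opens := ⟨{x | (pw.stalkMap x).hom.Flat}, Groth.Agent.S0386.result pw⟩
  haveI : Flat (O.ι ≫ pw) := Flat.of_stalkMap _ fun z => by
    rw [Scheme.Hom.stalkMap_comp]
    exact (RingHom.Flat.respectsIso.cancel_right_isIso _ _).2 z.2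
  let e : Spec (CommRingCat.of V) ⟶ H.left := η[H].left
  have he : e ≫ H.hom = 𝟙 _ := Over.w η[H]
  let π := pullback.snd (O.ι ≫ pw) e
  let i₀ := pullback.fst (O.ι ≫ pw) e ≫ O.ι
  haveI : Flat π := MorphismProperty.pullback_snd _ _ ‹Flat (O.ι ≫ pw)›
  let a : Over.mk ((𝟙_ (Over (Spec (CommRingCat.of k)))).hom ≫ r) ⟶ H := NilAction.toBase r y
  let tb : (_ ⟶ Hs) →* (Over.mk ((𝟙_ (Over (Spec (CommRingCat.of k)))).hom ≫ r) ⟶ H) :=
    MonoidHom.mk' (NilAction.toBase r) (NilAction.toBase_mul r)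
  have ha : a ^ ℓ = 1 := by
    show (tb y) ^ ℓ = 1
    rw [← map_pow, hy, map_one]
  have ha1 : a ≠ 1 := fun h0 => hy1 (by
    rw [← NilAction.ofBase_toBase r y, show NilAction.toBase r y = 1 from h0, ← NilAction.toBase_one r,
      NilAction.ofBase_toBase])
  have hapw : a.left ≫ pw = ((𝟙_ (Over (Spec (CommRingCat.of k)))).hom ≫ r) ≫ e := by
    have h3 : a ≫ (𝟙 H ^ ℓ) = 1 := by rw [MonObj.comp_pow, Category.comp_id, ha]
    exact (congrArg CommaMorphism.left h3).trans MonoFibres.one_left
  let c₀ : ↥(𝟙_ (Over (Spec (CommRingCat.of k)))).left := IsLocalRing.closedPoint k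
  have haO : a.left c₀ ∈ O := hst _ (by
    rw [← Scheme.Hom.comp_apply, Over.w a]
    show r (c₀) = s₀
    rfl)
  obtain ⟨n₀, hn₀, -⟩ := Scheme.Pullback.exists_preimage_pullback (f := O.ι ≫ pw) (g := e) ⟨a.left c₀, haO⟩
    (r c₀) (by
      show (O.ι ≫ pw) ⟨a.left c₀, haO⟩ = e (r c₀)
      rw [Scheme.Hom.comp_apply]
      show pw (a.left c₀) = _
      rw [← Scheme.Hom.comp_apply, hapw]
      rfl)
  obtain ⟨z, hz, hzη⟩ := Flat.generalizingMap π
    ((genericPoint_spec (Spec (CommRingCat.of V))).specializes (Set.mem_univ (π n₀)))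
  have hpw : pw ≫ H.hom = H.hom := Over.w (𝟙 H ^ ℓ)
  have hiH : i₀ ≫ H.hom = π := by
    have h3 := congrArg (· ≫ H.hom) (pullback.condition (f := O.ι ≫ pw) (g := e))
    simp only [Category.assoc, he, hpw, Category.comp_id] at h3
    rw [Category.assoc]
    exact h3
  haveI : IsPreimmersion (genPtOf V K) :=
    IsPreimmersion.of_isLocalization (R := V) (S := K) (nonZeroDivisors V)
  have hgen : genPtOf V K (IsLocalRing.closedPoint K) = genericPoint (Spec (CommRingCat.of V)) := by
    rw [genericPoint_eq_bot_of_affine]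
    refine PrimeSpectrum.ext ?_
    show (IsLocalRing.maximalIdeal K).comap (algebraMap V K) = ⊥
    rw [IsLocalRing.maximalIdeal_eq_bot]
    exact (RingHom.injective_iff_ker_eq_bot _).1 (IsFractionRing.injective V K)
  obtain ⟨w, hwz, -⟩ := Scheme.Pullback.exists_preimage_pullback (f := H.hom) (g := genPtOf V K) (i₀ z)
    (IsLocalRing.closedPoint K) (by rw [hgen, ← Scheme.Hom.comp_apply, hiH, hzη])
  let u := sq.isoPullback.inv w
  have hu : φ u = i₀ z := by
    rw [← Scheme.Hom.comp_apply, sq.isoPullback_inv_fst]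
    exact hwz
  -- everything is read off in `G`
  let pU := (𝟙 U ^ ℓ).left
  let pG := (𝟙 G ^ ℓ).left
  let eU : Spec (CommRingCat.of K) ⟶ U.left := η[U].left
  let eG : Spec (CommRingCat.of V) ⟶ G.left := η[G].left
  let q : U.left ⟶ G.left := i.left ≫ pullback.fst G.hom (genPtOf V K)
  haveI : IsPreimmersion (pullback.fst G.hom (genPtOf V K)) := MorphismProperty.pullback_fst _ _ inferInstance
  haveI : IsPreimmersion q := inferInstanceAs (IsPreimmersion (i.left ≫ _))
  have hjpw : pw ≫ j.left = j.left ≫ pG := congrArg CommaMorphism.left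
    (show (𝟙 H ^ ℓ) ≫ j = j ≫ (𝟙 G ^ ℓ) by rw [MonObj.pow_comp, Category.id_comp, MonObj.comp_pow, Category.comp_id])
  have hje : e ≫ j.left = eG := congrArg CommaMorphism.left (IsMonHom.one_hom j)
  have hqpw : pU ≫ q = q ≫ pG := by
    have h1 : (𝟙 U ^ ℓ) ≫ i = i ≫ (Over.pullback (genPtOf V K)).map (𝟙 G ^ ℓ) := by
      rw [map_pow_id, MonObj.pow_comp, Category.id_comp, MonObj.comp_pow, Category.comp_id]
    have h2 := congrArg (fun m => m.left ≫ pullback.fst G.hom (genPtOf V K)) h1
    simp only [Over.comp_left, Category.assoc] at h2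
    rw [ActBC.pullback_map_left_fst] at h2
    simpa [q, pU, pG] using h2
  have hqe : eU ≫ q = genPtOf V K ≫ eG := by
    have h1 : η[U] ≫ i = 1 := by
      rw [IsMonHom.one_hom i, Hom.one_def, toUnit_unique (toUnit _) (𝟙 _), Category.id_comp]
    have h2 := congrArg (fun m => (NilAction.toBase (genPtOf V K) m).left) h1
    simp only [NilAction.toBase_one] at h2
    rw [MonoFibres.one_left] at h2
    simp only [NilAction.toBase, Over.homMk_left, Over.comp_left, Category.assoc, Over.mk_hom,
      Over.tensorUnit_hom, Category.id_comp] at h2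
    exact h2
  let cK : ↥(Spec (CommRingCat.of K)) := IsLocalRing.closedPoint K
  have hqu : q u = j.left (i₀ z) := by
    rw [← hu, ← Scheme.Hom.comp_apply φ, hφ]
  have hpz : pw (i₀ z) = e (genPtOf V K cK) := by
    rw [← Scheme.Hom.comp_apply, Category.assoc, pullback.condition, Scheme.Hom.comp_apply]
    exact congrArg e (hzη.trans hgen.symm)
  have hpu : pU u = eU cK := by
    refine q.isEmbedding.injective ?_
    rw [← Scheme.Hom.comp_apply, hqpw, Scheme.Hom.comp_apply, hqu, ← Scheme.Hom.comp_apply j.left, ← hjpw,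
      Scheme.Hom.comp_apply, hpz, ← Scheme.Hom.comp_apply e, hje, ← Scheme.Hom.comp_apply (genPtOf V K), ← hqe,
      Scheme.Hom.comp_apply]
  haveI : IsClosedImmersion eU := isClosedImmersion_of_comp_eq_id U.hom eU (Over.w _)
  haveI : LocallyOfFiniteType U.hom := inferInstance
  have hue : u = eU cK := by
    by_contra hne
    haveI : JacobsonSpace U.left := LocallyOfFiniteType.jacobsonSpace U.hom
    have hsingle : IsClosed ({eU cK} : Set U.left) := by
      have h1 : Set.range eU = {eU cK} := by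
        ext x
        constructor
        · rintro ⟨y, rfl⟩
          rw [Subsingleton.elim (α := PrimeSpectrum K) y cK]
          rfl
        · rintro rfl
          exact ⟨cK, rfl⟩
      exact h1 ▸ eU.isClosedEmbedding.isClosed_range
    obtain ⟨x, ⟨hx1, hx2⟩, hxc⟩ := nonempty_inter_closedPoints (X := U.left)
      (Z := pU ⁻¹' {eU cK} \ {eU cK}) ⟨u, hpu, hne⟩
      ((hsingle.preimage pU.continuous).isLocallyClosed.inter hsingle.isOpen_compl.isLocallyClosed)
    haveI : AlgebraicGeometry.IsReduced (𝟙_ (Over (Spec (CommRingCat.of K)))).left :=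
      inferInstanceAs (AlgebraicGeometry.IsReduced (Spec (CommRingCat.of K)))
    let t : 𝟙_ (Over (Spec (CommRingCat.of K))) ⟶ U :=
      Over.homMk (pointOfClosedPoint U.hom x hxc) (pointOfClosedPoint_comp _ _ _)
    have htx : t.left cK = x := pointOfClosedPoint_apply _ _ _ _
    have ht : t ^ ℓ = 1 := by
      rw [← Category.comp_id t, ← MonObj.comp_pow]
      refine eq_one_of_range (t ≫ (𝟙 U ^ ℓ)) ?_
      rintro _ ⟨y, rfl⟩
      rw [Subsingleton.elim (α := PrimeSpectrum K) y cK]
      exact ⟨cK, by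
        show eU cK = pU (t.left cK)
        rw [htx]
        exact hx1.symm⟩
    have ht1 : t = 1 := eq_one_of_noSubtorus U hns t hK ht
    refine hx2 ?_
    rw [← htx, ht1]
    exact congrArg (fun m : Spec (CommRingCat.of K) ⟶ U.left => m cK) (MonoFibres.one_left.trans (Category.id_comp _))
  have hiz : i₀ z = e (genPtOf V K cK) := by
    refine j.left.isEmbedding.injective ?_
    rw [← hqu, hue, ← Scheme.Hom.comp_apply eU, hqe, Scheme.Hom.comp_apply, ← hje, Scheme.Hom.comp_apply]
  haveI : IsClosedImmersion e := by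
    haveI : IsClosedImmersion (e ≫ H.hom) := by rw [he]; infer_instance
    exact IsClosedImmersion.of_comp e H.hom
  have hac : a.left c₀ ∈ Set.range e := by
    refine (show i₀ n₀ = a.left c₀ from ?_) ▸ (hz.map i₀.continuous).mem_closed e.isClosedEmbedding.isClosed_range
      ⟨_, hiz.symm⟩
    rw [Scheme.Hom.comp_apply, hn₀]
    rfl
  haveI : AlgebraicGeometry.IsReduced (Over.mk ((𝟙_ (Over (Spec (CommRingCat.of k)))).hom ≫ r)).left :=
    inferInstanceAs (AlgebraicGeometry.IsReduced (Spec (CommRingCat.of k)))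
  refine ha1 (eq_one_of_range a ?_)
  rintro _ ⟨y, rfl⟩
  rw [Subsingleton.elim (α := PrimeSpectrum k) y c₀]
  exact hac

end Val

end Groth.L25.TorusNhd
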