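import Groth.Agent.S14754
import Groth.Agent.L25.MaxTorus.Image
import Groth.Agent.L19.AlgGrpBasic.GmIsog
import Mathlib.RingTheory.Nakayama
import Mathlib.RingTheory.RootsOfUnity.AlgebraicallyClosed

/-!
# Homomorphisms of split tori injective on ℓ-torsion points are finite
-/

set_option autoImplicit false
set_option backward.isDefEq.respectTransparency.types false
set_option linter.style.haveILetI false
universe u

open CategoryTheory CategoryTheory.Limits MonoidalCategory CartesianMonoidalCategory MonObj AlgebraicGeometry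

noncomputable section

namespace Groth.L25.TorusNhd

/-- surjective modulo a prime implies finite index -/
theorem exists_index {a b : ℕ} (φ : (Fin a → ℤ) →+ (Fin b → ℤ)) {ℓ : ℕ} (hℓ : ℓ.Prime)
    (h : ∀ lam : (Fin b → ℤ) →+ ZMod ℓ, lam.comp φ = 0 → lam = 0) :
    ∃ (n : ℕ) (ψ : (Fin b → ℤ) →+ (Fin a → ℤ)), 0 < n ∧ φ.comp ψ = n • AddMonoidHom.id _ := by
  classical
  haveI := Fact.mk hℓ
  let f := φ.toIntLinearMap
  let I : Ideal ℤ := Ideal.span {(ℓ : ℤ)}
  let Q := (Fin b → ℤ) ⧸ LinearMap.range f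
  have hle : (⊤ : Submodule ℤ Q) ≤ I • ⊤ := by
    by_contra hne
    let P : Submodule ℤ Q := I • ⊤
    haveI : Module (ZMod ℓ) (Q ⧸ P) := AddCommGroup.zmodModule fun x => by
      obtain ⟨x, rfl⟩ := Submodule.Quotient.mk_surjective P x
      rw [← Submodule.Quotient.mk_smul, Submodule.Quotient.mk_eq_zero, ← natCast_zsmul]
      exact Submodule.smul_mem_smul (Ideal.subset_span rfl) trivial
    obtain ⟨x, hx⟩ : ∃ x : Q ⧸ P, x ≠ 0 := by
      obtain ⟨x, -, hx⟩ := Set.not_subset.1 hne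
      exact ⟨Submodule.Quotient.mk x, fun h0 => hx ((Submodule.Quotient.mk_eq_zero P).1 h0)⟩
    obtain ⟨g, hg⟩ := Submodule.exists_dual_map_eq_bot_of_notMem (R := ZMod ℓ) (p := (⊥ : Submodule (ZMod ℓ) (Q ⧸ P)))
      (x := x) (by simpa using hx) inferInstance
    let lam : (Fin b → ℤ) →+ ZMod ℓ :=
      g.toAddMonoidHom.comp ((P.mkQ.comp (LinearMap.range f).mkQ).toAddMonoidHom)
    have h0 : lam = 0 := h lam (AddMonoidHom.ext fun m => by
      show g (P.mkQ ((LinearMap.range f).mkQ (φ m))) = 0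
      rw [show (LinearMap.range f).mkQ (φ m) = 0 from (Submodule.Quotient.mk_eq_zero _).2 ⟨m, rfl⟩]
      simp)
    obtain ⟨y, rfl⟩ := Submodule.Quotient.mk_surjective P x
    obtain ⟨z, rfl⟩ := Submodule.Quotient.mk_surjective _ y
    exact hg.1 (DFunLike.congr_fun h0 z)
  obtain ⟨r, hr1, hr0⟩ := Submodule.exists_sub_one_mem_and_smul_eq_zero_of_fg_of_le_smul I (⊤ : Submodule ℤ Q)
    Module.Finite.fg_top hle
  have hr : r ≠ 0 := by
    rintro rfl
    rw [Ideal.mem_span_singleton] at hr1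
    have h1 : (ℓ : ℤ) ∣ 1 := by simpa using hr1
    exact hℓ.ne_one (Nat.dvd_one.1 (by exact_mod_cast h1))
  let n := r.natAbs
  have hn : ∀ v : Fin b → ℤ, n • v ∈ LinearMap.range f := by
    intro v
    have h1 : r • v ∈ LinearMap.range f :=
      (Submodule.Quotient.mk_eq_zero _).1 ((Submodule.Quotient.mk_smul _ r v).trans (hr0 _ trivial))
    rcases Int.natAbs_eq r with h2 | h2
    · rw [← natCast_zsmul]; rwa [h2] at h1
    · rw [← natCast_zsmul]; rw [h2, neg_smul] at h1; exact neg_mem_iff.1 h1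
  obtain ⟨σ, hσ⟩ := Module.projective_lifting_property f.rangeRestrict
    ((n • LinearMap.id).codRestrict (LinearMap.range f) hn) f.surjective_rangeRestrict
  exact ⟨n, σ.toAddMonoidHom, Int.natAbs_pos.2 hr,
    AddMonoidHom.ext fun v => congrArg Subtype.val (LinearMap.congr_fun hσ v)⟩

variable {K : Type u} [Field K] [IsAlgClosed K]

/-- a homomorphism of split tori with no point of order a prime `ℓ` in its kernel is finite -/
theorem isFinite_of_torsion {a b : ℕ}
    (F : Red.DS (Spec (CommRingCat.of K)) (Fin b → ℤ) ⟶ Red.DS (Spec (CommRingCat.of K)) (Fin a → ℤ)) [IsMonHom F]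
    {ℓ : ℕ} (hℓ : ℓ.Prime) (hK : (ℓ : K) ≠ 0)
    (h : ∀ x : 𝟙_ (Over (Spec (CommRingCat.of K))) ⟶ Red.DS (Spec (CommRingCat.of K)) (Fin b → ℤ),
      x ^ ℓ = 1 → x ≫ F = 1 → x = 1) : IsFinite F.left := by
  haveI := Fact.mk hℓ
  obtain ⟨φ, rfl⟩ := Groth.Agent.S14754.exists_DSmap F
  haveI : NeZero (ℓ : K) := ⟨hK⟩
  obtain ⟨ζ, hζ⟩ := HasEnoughRootsOfUnity.exists_primitiveRoot K ℓ
  let T := 𝟙_ (Over (Spec (CommRingCat.of K)))
  let e := (Scheme.ΓSpecIso (CommRingCat.of K)).inv.hom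
  obtain ⟨n, ψ, hn, hψ⟩ := exists_index φ hℓ fun lam hlam => by
    let χ : Multiplicative (Fin b → ℤ) →* Γ(T.left, ⊤) :=
      { toFun := fun m => e (ζ ^ (lam m.toAdd).val)
        map_one' := by simp
        map_mul' := fun m m' => by
          rw [← map_mul, ← pow_add, toAdd_mul, map_add, ZMod.val_add]
          exact congrArg e (pow_eq_pow_mod _ hζ.pow_eq_one).symm }
    have hinj : Function.Injective e := (Scheme.ΓSpecIso (CommRingCat.of K)).symm.commRingCatIsoToRingEquiv.injective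
    have h1 := h (DSPts.pt χ) (by
      refine DSPts.char_injective (MonoidHom.ext fun m => ?_)
      rw [← MaxTorus.DSmap_nsmul, SplitSub.char_DSmap, DSPts.char_pt, DSPts.char_one]
      show e (ζ ^ (lam (ℓ • m.toAdd)).val) = 1
      rw [map_nsmul, ZModModule.char_nsmul_eq_zero, ZMod.val_zero, pow_zero, map_one]) (by
      refine DSPts.char_injective (MonoidHom.ext fun m => ?_)
      rw [SplitSub.char_DSmap, DSPts.char_pt, DSPts.char_one]
      show e (ζ ^ (lam (φ m.toAdd)).val) = 1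
      rw [show lam (φ m.toAdd) = 0 from DFunLike.congr_fun hlam m.toAdd, ZMod.val_zero, pow_zero, map_one])
    refine AddMonoidHom.ext fun v => ?_
    have h2 := DFunLike.congr_fun (congrArg DSPts.char h1) (Multiplicative.ofAdd v)
    rw [DSPts.char_pt, DSPts.char_one] at h2
    have h3 : ζ ^ (lam v).val = 1 := hinj (h2.trans (map_one e).symm)
    exact (ZMod.val_eq_zero _).1 (Nat.eq_zero_of_dvd_of_lt ((hζ.pow_eq_one_iff_dvd _).1 h3) (ZMod.val_lt _))
  have hcomp : Red.DSmap (Spec (CommRingCat.of K)) φ ≫ Red.DSmap _ ψ = (𝟙 _) ^ n := by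
    rw [TorusTorsion.DSmap_comp, hψ, ← MaxTorus.DSmap_nsmul, Category.id_comp]
  have hfin := (Groth.L19.AlgGrpBasic.pow_DS_props (k := K) (Fin b → ℤ) n hn).2
  rw [← hcomp, Over.comp_left] at hfin
  haveI := hfin
  haveI : IsAffineHom (Red.DS (Spec (CommRingCat.of K)) (Fin a → ℤ)).hom :=
    MorphismProperty.pullback_snd _ _ (inferInstanceAs (IsAffineHom (Spec.map (CommRingCat.ofHom
      (algebraMap (ULift.{u} ℤ) (MonoidAlgebra (ULift.{u} ℤ) (Multiplicative (Fin a → ℤ))))))))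
  haveI : IsAffine (Red.DS (Spec (CommRingCat.of K)) (Fin a → ℤ)).left :=
    isAffine_of_isAffineHom (Red.DS _ (Fin a → ℤ)).hom
  exact IsFinite.of_comp (Red.DSmap _ φ).left (Red.DSmap _ ψ).left

end Groth.L25.TorusNhd
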