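import Groth.Agent.L25.TorusNhd.Affine
import Groth.Agent.L08.Borel.SmoothDim
import Groth.Agent.L08.GrpQC

/-!
# Smooth groups with torus fibres over Noetherian bases are tori
-/

set_option autoImplicit false
set_option backward.isDefEq.respectTransparency.types false
set_option linter.style.haveILetI false
universe u

open CategoryTheory CategoryTheory.Limits MonoidalCategory CartesianMonoidalCategory MonObj AlgebraicGeometry

noncomputable section

namespace Groth.L25.TorusNhd

variable {S : Scheme.{u}} {G : Over S} [GrpObj G]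

/-- the identity of a torus is a maximal torus -/
theorem isMaxTorus_id {k : Type u} [Field k] {T : Over (Spec (CommRingCat.of k))} [GrpObj T] (hT : Red.IsTorus T) :
    AGF.IsMaxTorus (𝟙 T) :=
  ⟨inferInstance, inferInstance, hT, fun T' _ j _ _ f _ hf => by
    haveI : IsSplitEpi j := IsSplitEpi.mk' ⟨f, by rw [← hf]⟩
    haveI : IsIso j := isIso_of_mono_of_isSplitEpi j
    exact (IsIso.of_isIso_fac_right hf : IsIso f)⟩

variable [Smooth G.hom] [QuasiCompact G.hom]

/-- the reductive rank of a group with torus fibres is locally constant -/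
theorem redRankLocallyConstant (hfib : ∀ s : S, Red.IsTorus (Red.bc (S.fromSpecResidueField s) G)) :
    SGA3x.RedRankLocallyConstant G := by
  intro s
  obtain ⟨U, n, hsU, hn⟩ := Groth.L08.Borel.exists_open_fibre_dim G s
  refine ⟨U, hsU, (n : ℕ), fun t ht => ⟨Red.geomFibre t G, inferInstance, 𝟙 _,
    Groth.L08.Borel.isMaximalTorus_of_isMaxTorus (isMaxTorus_id (isTorus_point hfib (Red.geomPt t))), ?_⟩⟩
  refine hn _ (Red.geomPt t) ?_
  rw [Groth.L08.Borel.geomPt_apply]
  exact ht

/-- **tori from affineness and torus fibres** -/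
theorem isTorus_of_affine [IsAffineHom G.hom]
    (hfib : ∀ s : S, Red.IsTorus (Red.bc (S.fromSpecResidueField s) G)) : Red.IsTorus G := by
  obtain ⟨S₁, f, hf, hfs, T, gT, i, hi⟩ := Groth.L08.Borel.hasMaxTorusEtaleLocally (redRankLocallyConstant hfib)
  haveI := hf; haveI := hfs; haveI := hi.1; haveI := hi.2.1
  haveI : Smooth (Red.bc f G).hom := MorphismProperty.pullback_snd _ _ ‹Smooth G.hom›
  haveI : IsAffineHom (Red.bc f G).hom := MorphismProperty.pullback_snd _ _ ‹IsAffineHom G.hom›
  have hsT : Smooth T.hom := Groth.L08.Borel.smooth_of_isTorus hi.2.2.1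
  haveI := hsT
  haveI : LocallyOfFiniteType (Red.bc f G).hom := inferInstance
  haveI : IsIso i := by
    refine Groth.L08.Borel.isIso_of_geomFibres i fun p => ?_
    exact hi.2.2.2 p _ (𝟙 _) ((Over.pullback (Red.geomPt p)).map i)
      (isTorus_point (isTorus_fibres_bc hfib f) (Red.geomPt p)) (Category.comp_id _)
  haveI : IsMonHom (asIso i).hom := hi.1
  refine Groth.L08.Borel.isTorus_descend f (fun V hV => ?_)
    (Groth.L25.TorLift.isTorus_of_iso (Grp.mkIso' (asIso i)) hi.2.2.1)
  obtain ⟨W, h1, h2⟩ := f.isOpenMap.exists_opens_image_eq_of_prespectralSpace f.continuous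
    (U := (V : Set S)) (by rw [f.surjective.range_eq]; exact Set.subset_univ _) V.2 hV.isCompact
  exact ⟨W, h1, h2⟩

omit [QuasiCompact G.hom] in
/-- smooth groups with connected fibres are separated -/
theorem isSeparated_of_torus_fibres (hfib : ∀ s : S, Red.IsTorus (Red.bc (S.fromSpecResidueField s) G)) :
    IsSeparated G.hom := by
  refine Groth.L08.ActSep.isSeparated_of_connected (fun s => ?_) (Groth.L08.ActSep.leftMul G)
    (Groth.L08.ActSep.surjective_leftMul G)
  haveI : ConnectedSpace ↥(pullback G.hom (S.fromSpecResidueField s)) :=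
    Groth.L13.TorusConn.connectedSpace (Red.bc (S.fromSpecResidueField s) G) (hfib s)
  rw [← Scheme.range_fromSpecResidueField, ← Scheme.Pullback.range_fst]
  exact isConnected_range (pullback.fst G.hom (S.fromSpecResidueField s)).continuous

/-- **torus fibres imply torus** -/
theorem isTorus_of_fibres [IsLocallyNoetherian S]
    (hfib : ∀ s : S, Red.IsTorus (Red.bc (S.fromSpecResidueField s) G)) : Red.IsTorus G := by
  haveI := isSeparated_of_torus_fibres hfib
  haveI := isAffineHom_of_torus_fibres G hfib
  exact isTorus_of_affine hfib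

end Groth.L25.TorusNhd
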